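import Cfsg.Agent.Lib.Spor.L43Three.One.Core

/-!
The centraliser of an element of the second plane when `z` is isolated.
-/

set_option autoImplicit false
set_option linter.unusedSectionVars false
set_option maxRecDepth 10000
set_option maxHeartbeats 1000000

namespace Cfsg.Agent.Spor.L43Three

open Subgroup Matrix

universe u

theorem shape_u {M : Stab} (h : Commute M (rep 1)) : M.1.1 0 1 = 0 ∧ M.1.1 2 1 = 0 ∧ M.1.1 3 1 = 0 ∧
    M.1.1 3 2 = 0 ∧ M.1.1 2 2 = 1 ∧ M.1.1 3 3 = M.1.1 1 1 := by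
  have m := congrArg (fun B : Stab => B.1.1) h.eq
  simp only [Stab_mul_val, show (rep 1).1.1 = repM 1 from rfl] at m
  have k : ∀ i j, (M.1.1 * repM 1) i j = (repM 1 * M.1.1) i j := fun i j => by rw [m]
  have a0 := M.2 0
  have a1 := M.2 1
  have a2 := M.2 2
  have a3 := M.2 3
  simp at a0 a1 a2 a3
  have b03 := k 0 3
  have b11 := k 1 1
  have b12 := k 1 2
  have b13 := k 1 3
  have b23 := k 2 3
  simp [repM, Matrix.mul_apply, Fin.sum_univ_four, a0, a1, a2, a3] at b03 b11 b12 b13 b23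
  have e01 : M.1.1 0 1 = 0 := by linear_combination b03
  have e21 : M.1.1 2 1 = 0 := by linear_combination b23
  have e31 : M.1.1 3 1 = 0 := by linear_combination b11
  have e32 : M.1.1 3 2 = 0 := by linear_combination b12
  have e33 : M.1.1 3 3 = M.1.1 1 1 := by linear_combination -b13
  refine ⟨e01, e21, e31, e32, ?_, e33⟩
  have hd := M.1.2
  rw [Stab_eq_aff M, det_eq_det3] at hd
  simp [det3, aff, lowBlock] at hd
  simp [e21, e31, e32, e33] at hd
  have key : ∀ d c : ZMod 3, d * c * d = 1 → c = 1 := by decide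
  exact key _ _ hd

/-- The elements of the kernel, by coordinates. -/
def uM (v : Fin 3 → ZMod 3) (s : ZMod 3) : M4 :=
  !![1, 0, 0, v 0; 0, 1, v 1, s; 0, 0, 1, v 2; 0, 0, 0, 1]

theorem uM_det : ∀ v s, (uM v s).det = 1 ∧ ∀ i, uM v s i 0 = if i = 0 then 1 else 0 := by decide +kernel

/-- An element of the kernel. -/
def uT (v : Fin 3 → ZMod 3) (s : ZMod 3) : Stab := mk4 (uM v s) (uM_det v s).1 (uM_det v s).2

theorem uT_mul (v w : Fin 3 → ZMod 3) (r s : ZMod 3) : uT v r * uT w s = uT (v + w) (r + s + v 1 * w 2) := by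
  refine Stab_ext ?_
  rw [Stab_mul_val]
  show uM v r * uM w s = uM _ _
  ext i j
  fin_cases i <;> fin_cases j <;> simp [uM, Matrix.mul_apply, Fin.sum_univ_four] <;> ring

theorem uT_inj {v w : Fin 3 → ZMod 3} {r s : ZMod 3} (h : uT v r = uT w s) : v = w ∧ r = s := by
  have h' : uM v r = uM w s := congrArg (fun M : Stab => M.1.1) h
  refine ⟨?_, by simpa [uM] using congrFun (congrFun h' 1) 3⟩
  funext i
  fin_cases i
  · simpa [uM] using congrFun (congrFun h' 0) 3
  · simpa [uM] using congrFun (congrFun h' 1) 2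
  · simpa [uM] using congrFun (congrFun h' 2) 3

theorem uM_comm : ∀ v s, uM v s * repM 1 = repM 1 * uM v s := by decide +kernel

theorem uM_t : ∀ (v : Fin 3 → ZMod 3) (s : ZMod 3), tS.1.1 * uM v s * tS.1.1 = uM (-v) s := by decide +kernel

theorem uT_t (v : Fin 3 → ZMod 3) (s : ZMod 3) : tS * uT v s * tS = uT (-v) s := Stab_ext (uM_t v s)

theorem uT_mem (v : Fin 3 → ZMod 3) (s : ZMod 3) : uT v s ∈ U4 := fun i j hij => by
  show uM v s i j = _
  fin_cases i <;> fin_cases j <;> first | rfl | exact absurd hij (by decide)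

theorem rep_one_pow : ∀ k : Fin 3, rep 1 ^ (k : ℕ) = uT 0 ((k : ℕ) : ZMod 3) := by decide +kernel

theorem rep_one_cube : rep 1 ^ 3 = 1 := Stab_ext (by decide +kernel)

theorem uT_z : uT ![1, 0, 0] 0 = zS := Stab_ext (by decide +kernel)

theorem uT_surj {M : Stab} (hU : M ∈ U4) (hc : Commute M (rep 1)) (h : M.1.1 0 2 = 0) : ∃ v s, uT v s = M := by
  obtain ⟨e01, -, -, -, -, -⟩ := shape_u hc
  refine ⟨![M.1.1 0 3, M.1.1 1 2, M.1.1 2 3], M.1.1 1 3, Stab_ext ?_⟩
  show uM _ _ = M.1.1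
  ext i j
  by_cases hij : j ≤ i
  · rw [hU i j hij]; fin_cases i <;> fin_cases j <;> first | rfl | exact absurd hij (by decide)
  · fin_cases i <;> fin_cases j <;> first | exact absurd (by decide) hij | skip
    all_goals simp [uM, e01, h]

namespace Emb

variable {G : Type u} [Group G] [Finite G] (E : Emb G)

/-- The centraliser of the element of the second plane. -/
theorem cent_u (hR : E.R ≤ E.ι.range) {g : G} (hg : Commute g (E.ι (rep 1))) : g ∈ E.ι.range := by
  obtain ⟨K1, hK1c, hK1n, hK1m, hK1s⟩ := E.exists_kernel hR (q := rep 1) (Stab_ext (by decide +kernel))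
    (Stab_ext (by decide +kernel)) (fun M => M.1.1 0 2) (fun M N hM hN => by
      obtain ⟨a1, a2, a3, a4, a5, -⟩ := shape_u hM
      obtain ⟨b1, b2, b3, b4, b5, -⟩ := shape_u hN
      have c0 := M.2 0
      simp at c0
      show (M * N).1.1 0 2 = _
      rw [Stab_mul_val]
      simp [Matrix.mul_apply, Fin.sum_univ_four, c0, a1, b4, b5, add_comm]) (by decide +kernel) fun M hM => by
      obtain ⟨a1, a2, a3, a4, a5, a6⟩ := shape_u hM
      exact cover_of_tri a2 a3 a4 (fun _ => a5) a6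
  have hmem : ∀ v s, E.ι (uT v s) ∈ K1 := fun v s => (hK1m _).2
    ⟨Stab_ext (uM_comm v s), show uM v s 0 2 = 0 from rfl⟩
  let e : (Fin 3 → ZMod 3) → ZMod 3 → K1 := fun v s => ⟨E.ι (uT v s), hmem v s⟩
  have he_mul : ∀ v w r s, e v r * e w s = e (v + w) (r + s + v 1 * w 2) := fun v w r s => Subtype.ext (by
    show E.ι (uT v r) * E.ι (uT w s) = E.ι (uT _ _)
    rw [← map_mul, uT_mul])
  let uK : K1 := e 0 1
  have hrep : rep 1 = uT 0 1 := by simpa using rep_one_pow 1
  have huc : ∀ k : K1, Commute k uK := fun k => Subtype.ext (by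
    show (k : G) * E.ι (uT 0 1) = E.ι (uT 0 1) * k
    rw [← hrep]; exact hK1c k k.2)
  have hpow : ∀ x ∈ zpowers uK, ∃ s, x = e 0 s := by
    intro x hx
    obtain ⟨i, rfl⟩ := mem_zpowers_iff.1 hx
    have hu3 : uK ^ 3 = 1 := Subtype.ext (by
      show E.ι (uT 0 1) ^ 3 = 1
      rw [← hrep, ← map_pow, rep_one_cube, map_one])
    refine ⟨(((i % 3).toNat : ℕ) : ZMod 3), ?_⟩
    rw [zpow_eq_zpow_emod' i hu3, show i % (3 : ℕ) = ((i % 3).toNat : ℤ) by omega, zpow_natCast]
    refine Subtype.ext ?_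
    show E.ι (uT 0 1) ^ (i % 3).toNat = E.ι (uT 0 _)
    rw [← map_pow, ← hrep, rep_one_pow ⟨(i % 3).toNat, by omega⟩]
  set Z := zpowers uK
  haveI hZn : Z.Normal := ⟨fun x hx k => by
    obtain ⟨i, rfl⟩ := mem_zpowers_iff.1 hx
    rw [((huc k).zpow_right i).eq, mul_inv_cancel_right]
    exact zpow_mem (mem_zpowers _) i⟩
  set π := QuotientGroup.mk' Z
  let eb : (Fin 3 → ZMod 3) → K1 ⧸ Z := fun v => π (e v 0)
  have heb : ∀ v s, π (e v s) = eb v := by
    intro v s
    have : e v s = e v 0 * e 0 s := by rw [he_mul]; simp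
    rw [this, map_mul]
    have hm : e 0 s ∈ Z := by
      have hk : ∀ s : ZMod 3, ((s.val : ℕ) : ZMod 3) = s := fun s => ZMod.natCast_zmod_val s
      refine mem_zpowers_iff.2 ⟨((s.val : ℕ) : ℤ), ?_⟩
      rw [zpow_natCast]
      refine Subtype.ext ?_
      show E.ι (uT 0 1) ^ s.val = E.ι (uT 0 s)
      rw [← map_pow, ← hrep, rep_one_pow ⟨s.val, s.val_lt⟩]
      simp [hk]
    rw [show π (e 0 s) = 1 from (QuotientGroup.eq_one_iff _).2 hm, mul_one]
  have heb_mul : ∀ v w, eb v * eb w = eb (v + w) := fun v w => by rw [← map_mul, he_mul, heb]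
  have he_out : ∀ (k : K1) v, π k = eb v → ∃ s, k = e v s := by
    intro k v h
    have hm : (e v 0)⁻¹ * k ∈ Z := QuotientGroup.eq.1 h.symm
    obtain ⟨s, hs⟩ := hpow _ hm
    exact ⟨0 + s + v 1 * (0 : Fin 3 → ZMod 3) 2,
      by rw [show k = e v 0 * e 0 s by rw [← hs, mul_inv_cancel_left], he_mul, add_zero]⟩
  have heb_inj : Function.Injective eb := fun v w h => by
    obtain ⟨s, hs⟩ := he_out (e v 0) w h
    exact (uT_inj (E.inj (congrArg Subtype.val hs))).1
  have heb_zero : eb 0 = 1 := by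
    have h := heb_mul 0 0
    rw [add_zero] at h
    exact mul_left_cancel (h.trans (mul_one _).symm)
  have htK : E.ι tS ∈ K1 := (hK1m tS).2 ⟨Stab_ext (by decide +kernel), by decide +kernel⟩
  let t : K1 := ⟨E.ι tS, htK⟩
  have htt : t * t = 1 := Subtype.ext (by
    show E.ι tS * E.ι tS = 1
    rw [← map_mul, tS_sq, map_one])
  set tb := π t
  have htb : ∀ v, tb * eb v * tb⁻¹ = eb (-v) := fun v => by
    rw [← map_inv, ← map_mul, ← map_mul, inv_eq_of_mul_eq_one_right htt]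
    refine Eq.trans (congrArg π ?_) (heb (-v) 0)
    refine Subtype.ext ?_
    show E.ι tS * E.ι (uT v 0) * E.ι tS = E.ι (uT (-v) 0)
    rw [← map_mul, ← map_mul, uT_t]
  have htb2 : tb * tb = 1 := by rw [← map_mul, htt, map_one]
  let h : Multiplicative (Fin 3 → ZMod 3) →* K1 ⧸ Z :=
    MonoidHom.mk' (fun v => eb (Multiplicative.toAdd v)) fun v w => (heb_mul _ _).symm
  have hD3 : IsPGroup 3 h.range := (IsPGroup.of_card (p := 3) (n := 3)
    (G := Multiplicative (Fin 3 → ZMod 3)) (by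
      rw [Nat.card_congr Multiplicative.toAdd, Nat.card_fun, Nat.card_zmod, Nat.card_eq_fintype_card,
        Fintype.card_fin])).of_surjective h.rangeRestrict h.rangeRestrict_surjective
  have htne : tb ≠ 1 := by
    intro e'
    obtain ⟨s, hs⟩ := he_out t 0 (e'.trans heb_zero.symm)
    have h0 := E.inj (congrArg Subtype.val hs)
    exact tS_notMem (h0 ▸ uT_mem 0 s)
  set a : Fin 3 → ZMod 3 := ![1, 0, 0]
  have hiso : ∀ g : K1 ⧸ Z, g * eb a * g⁻¹ ∈ h.range → g ∈ h.range ∨ ∃ p ∈ h.range, g = p * tb := by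
    intro g hg'
    obtain ⟨k, rfl⟩ := QuotientGroup.mk'_surjective Z g
    obtain ⟨v, hv⟩ := hg'
    obtain ⟨s, hs⟩ := he_out (k * e a 0 * k⁻¹) (Multiplicative.toAdd v) (by
      rw [map_mul, map_mul, map_inv]; exact hv.symm)
    have hk : (k : G) ∈ E.ι.range := hR (E.iso k (E.le ⟨uT (Multiplicative.toAdd v) s, by
      rw [← uT_z]; exact (congrArg Subtype.val hs).symm⟩))
    obtain ⟨M, hM⟩ := hk
    obtain ⟨hMq, hMχ⟩ := (hK1m M).1 (hM ▸ k.2)
    obtain ⟨a1, a2, a3, a4, a5, a6⟩ := shape_u hMq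
    rcases cover_of_tri a2 a3 a4 (fun _ => a5) a6 with hU | hU
    · obtain ⟨w, r, hw⟩ := uT_surj hU hMq hMχ
      refine Or.inl ⟨Multiplicative.ofAdd w, ?_⟩
      rw [show k = e w r from Subtype.ext (by rw [← hM, ← hw])]
      exact (heb w r).symm
    · have hχt : (M * tS).1.1 0 2 = 0 := by
        rw [Stab_mul_val, show tS.1.1 = Matrix.diagonal ![1, 2, 1, 2] by decide +kernel, Matrix.mul_diagonal, hMχ,
          zero_mul]
      obtain ⟨w, r, hw⟩ := uT_surj hU (hMq.mul_left (Stab_ext (by decide +kernel))) hχt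
      refine Or.inr ⟨eb w, ⟨Multiplicative.ofAdd w, rfl⟩, ?_⟩
      rw [← heb w r, show k = e w r * t from Subtype.ext (by
        show (k : G) = E.ι (uT w r) * E.ι tS
        rw [← map_mul, hw, mul_assoc, tS_sq, mul_one, hM]), map_mul]
  obtain ⟨P, hP⟩ := exists_sylow_iso h.range hD3 (eb a) tb ⟨Multiplicative.ofAdd a, rfl⟩ htb2 htne hiso
  have hPm : ∀ {g : K1 ⧸ Z}, g ∈ (P : Subgroup (K1 ⧸ Z)) ↔ ∃ v, eb v = g := by
    intro g; rw [hP]
    exact ⟨fun ⟨v, hv⟩ => ⟨_, hv⟩, fun ⟨v, hv⟩ => ⟨Multiplicative.ofAdd v, hv⟩⟩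
  have hP' : ∀ v, eb v ∈ (P : Subgroup (K1 ⧸ Z)) := fun v => hPm.2 ⟨v, rfl⟩
  let co' : ↥(P : Subgroup (K1 ⧸ Z)) → (Fin 3 → ZMod 3) := fun p => (hPm.1 p.2).choose
  have hco : ∀ p : ↥(P : Subgroup (K1 ⧸ Z)), eb (co' p) = p := fun p => (hPm.1 p.2).choose_spec
  let φ : ↥(P : Subgroup (K1 ⧸ Z)) →* Multiplicative (Inverted.Vec 3) :=
    MonoidHom.mk' (fun p => Multiplicative.ofAdd (co' p)) fun p q => by
      rw [← ofAdd_add]
      refine congrArg _ (heb_inj ?_)
      rw [hco, ← heb_mul, hco, hco]; rfl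
  have hφ : ∀ v (hv : eb v ∈ (P : Subgroup (K1 ⧸ Z))), φ ⟨eb v, hv⟩ = Multiplicative.ofAdd v := fun v hv =>
    congrArg Multiplicative.ofAdd (heb_inj (hco _))
  have hab : ∀ x ∈ (P : Subgroup (K1 ⧸ Z)), ∀ y ∈ (P : Subgroup (K1 ⧸ Z)), Commute x y := by
    intro x hx y hy
    obtain ⟨v, rfl⟩ := hPm.1 hx
    obtain ⟨w, rfl⟩ := hPm.1 hy
    show _ = _
    rw [heb_mul, heb_mul, add_comm]
  have hisoP : ∀ g : K1 ⧸ Z, g * eb a * g⁻¹ ∈ (P : Subgroup (K1 ⧸ Z)) →
      g ∈ (P : Subgroup (K1 ⧸ Z)) ∨ ∃ p ∈ (P : Subgroup (K1 ⧸ Z)), g = p * tb := by rw [hP]; exact hiso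
  have ht : ∀ p ∈ (P : Subgroup (K1 ⧸ Z)), tb * p * tb⁻¹ ∈ (P : Subgroup (K1 ⧸ Z)) := fun p hp => by
    obtain ⟨v, rfl⟩ := hPm.1 hp
    rw [htb]; exact hP' _
  obtain ⟨I, hIφ, hIt⟩ := Inverted.exists_inv (n := 3) φ
    (fun y => ⟨⟨eb (Multiplicative.toAdd y), hP' _⟩, by rw [hφ]; rfl⟩) tb ht (fun p => by
      obtain ⟨v, hv⟩ := hPm.1 p.2
      have e1 : p = ⟨eb v, hP' v⟩ := Subtype.ext hv.symm
      rw [e1, hφ]
      have e2 : (⟨tb * eb v * tb⁻¹, ht _ (hP' v)⟩ : ↥(P : Subgroup (K1 ⧸ Z))) = ⟨eb (-v), hP' _⟩ :=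
        Subtype.ext (htb v)
      rw [e2, hφ]; rfl)
    (eb a) (hP' _) (fun p hp => hab _ (hP' _) _ hp) hisoP fun v x y _ _ _ => Subtype.ext (hab _ x.2 _ y.2)
  haveI := Fintype.ofFinite (K1 ⧸ Z)
  set b : Fin 3 → ZMod 3 := ![0, 1, 0]
  have hcube : ∀ v, eb v ^ 3 = 1 := fun v => by
    rw [pow_three, heb_mul, heb_mul, ← heb_zero]
    refine congrArg eb (funext fun i => ?_)
    have key : ∀ c : ZMod 3, c + (c + c) = 0 := by decide
    exact key _
  obtain ⟨O, hOn, hO3, hdec⟩ := I.exists_core Inverted.good_three ⟨eb a, hP' _⟩ ⟨eb b, hP' _⟩ (hcube _) (hcube _)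
    (by
      rw [hIφ, hφ]
      intro e'
      have := congrFun (congrArg Multiplicative.toAdd e') 0
      exact absurd this (by decide))
    (by
      refine isConj_iff.2 ⟨tb, ?_⟩
      show tb * (eb b)⁻¹ * tb⁻¹ = eb b
      rw [show tb * (eb b)⁻¹ * tb⁻¹ = (tb * eb b * tb⁻¹)⁻¹ by group, htb]
      exact inv_eq_of_mul_eq_one_right (by rw [heb_mul, neg_add_cancel, heb_zero]))
    (by
      intro k
      show Multiplicative.toAdd (I.φ _) ≠ k • Multiplicative.toAdd (I.φ _)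
      rw [hIφ, hφ, hφ]
      intro e'
      have := congrFun e' 1
      simp [a, b] at this)
    (by
      intro c hc
      have hca : c * eb a * c⁻¹ = eb a := by rw [hc.eq, mul_inv_cancel_right]
      rcases hisoP c (hca.symm ▸ hP' a) with hc' | ⟨p, hp, rfl⟩
      · exact hc'
      · obtain ⟨v, rfl⟩ := hPm.1 hp
        exfalso
        have : eb (-a) = eb a := by
          rw [← hca, show eb v * tb * eb a * (eb v * tb)⁻¹ = eb v * (tb * eb a * tb⁻¹) * (eb v)⁻¹ by group, htb,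
            heb_mul, add_comm, ← heb_mul, mul_inv_cancel_right]
        exact absurd (congrFun (heb_inj this) 0) (by decide))
    (by
      rw [← Nat.card_congr (Equiv.ofBijective (fun v => (⟨eb v, mem_centralizer_singleton_iff.2
        (hab _ (hP' v) _ (hP' a)).eq⟩ : centralizer ({eb a} : Set (K1 ⧸ Z)))) ⟨fun v w e' =>
          heb_inj (congrArg Subtype.val e'), fun c => ?_⟩), Nat.card_fun, Nat.card_zmod, Nat.card_eq_fintype_card,
        Fintype.card_fin]
      have hcc : Commute (c : K1 ⧸ Z) (eb a) := mem_centralizer_singleton_iff.1 c.2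
      rcases hisoP c (by rw [hcc.eq, mul_inv_cancel_right]; exact hP' a) with h' | ⟨p, hp, h'⟩
      · obtain ⟨v, hv⟩ := hPm.1 h'
        exact ⟨v, Subtype.ext hv⟩
      · obtain ⟨v, rfl⟩ := hPm.1 hp
        exfalso
        have : eb (-a) = eb a := by
          have hca : (c : K1 ⧸ Z) * eb a * (c : K1 ⧸ Z)⁻¹ = eb a := by rw [hcc.eq, mul_inv_cancel_right]
          rw [h'] at hca
          rw [← hca, show eb v * tb * eb a * (eb v * tb)⁻¹ = eb v * (tb * eb a * tb⁻¹) * (eb v)⁻¹ by group, htb,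
            heb_mul, add_comm, ← heb_mul, mul_inv_cancel_right]
        exact absurd (congrFun (heb_inj this) 0) (by decide))
    (by
      intro x hx1 hxφ _
      obtain ⟨v, hv⟩ := hPm.1 x.2
      have hx : x = ⟨eb v, hP' v⟩ := Subtype.ext hv.symm
      rw [hx, hIφ, hφ] at hxφ
      refine absurd ?_ hx1
      rw [hx]
      refine Subtype.ext ?_
      show eb v = 1
      rw [show v = 0 from Multiplicative.ofAdd.injective hxφ, heb_zero])
    (by
      rw [hIt]
      intro x hx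
      obtain ⟨v, rfl⟩ := hPm.1 hx
      refine subset_closure ⟨eb v, hP' v, ?_⟩
      rw [htb, eq_inv_mul_iff_mul_eq, heb_mul]
      refine congrArg eb (funext fun i => ?_)
      have key : ∀ c : ZMod 3, c + c = -c := by decide
      exact key _)
    (by rw [hIt]; exact fun g hg' => hisoP g (Inverted.mem_normalizer_conj hg' (hP' _)))
    (Or.inl hab)
  -- lift the core
  set O' := O.comap π
  haveI hO'n : O'.Normal := hOn.comap π
  have hZO : Z ≤ O' := fun x hx => by
    show π x ∈ O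
    rw [show π x = 1 from (QuotientGroup.eq_one_iff x).2 hx]; exact one_mem _
  have hcard : Nat.card O' = Nat.card Z * Nat.card O := by
    have e1 := (Z.subgroupOf O').card_mul_index
    rw [Nat.card_congr (subgroupOfEquivOfLe hZO).toEquiv] at e1
    rw [← e1]
    congr 1
    have : Z.relIndex O' = Nat.card O := by
      have h' := Subgroup.relIndex_ker (f := π) O'
      rw [QuotientGroup.ker_mk', map_comap_eq_self_of_surjective (QuotientGroup.mk'_surjective Z)] at h'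
      exact h'
    exact this
  have hZ3 : Nat.card Z = 3 := by
    rw [Nat.card_zpowers]
    haveI : Fact (Nat.Prime 3) := ⟨Nat.prime_three⟩
    refine orderOf_eq_prime ?_ ?_
    · refine Subtype.ext ?_
      show E.ι (uT 0 1) ^ 3 = 1
      rw [← hrep, ← map_pow, rep_one_cube, map_one]
    · intro e'
      have := E.inj ((congrArg Subtype.val e').trans (map_one E.ι).symm)
      exact absurd (congrArg (fun M : Stab => M.1.1) this) (by decide +kernel)
  haveI : Fact (Nat.Prime 3) := ⟨Nat.prime_three⟩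
  have hidx : ¬ 3 ∣ (Z.subgroupOf O').index := by
    have e1 := (Z.subgroupOf O').card_mul_index
    rw [Nat.card_congr (subgroupOfEquivOfLe hZO).toEquiv, hcard] at e1
    rw [Nat.eq_of_mul_eq_mul_left Nat.card_pos e1]
    exact Nat.prime_three.coprime_iff_not_dvd.1 hO3.symm
  let S : Sylow 3 O' := (IsPGroup.of_card (p := 3) (n := 1) (G := Z.subgroupOf O') (by
    rw [Nat.card_congr (subgroupOfEquivOfLe hZO).toEquiv, hZ3, pow_one])).toSylow hidx
  obtain ⟨W, -, hW3, hWdec, hWall⟩ := Inverted.burnside S fun g _ => mem_centralizer_iff.2 fun x hx => by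
    obtain ⟨i, hi⟩ := mem_zpowers_iff.1 (show (x : K1) ∈ Z from hx)
    refine Subtype.ext ?_
    show (x : K1) * g = g * x
    rw [← hi]
    exact ((huc g).zpow_right i).eq.symm
  have hWbot : W.map O'.subtype = ⊥ := E.core_trivial K1 (hK1n _ (E.ι_commute.2 (Stab_ext (by decide +kernel))))
    (hK1n _ (E.ι_commute.2 (Stab_ext (by decide +kernel))))
    ⟨by
      rintro _ ⟨o, ho, rfl⟩ k
      refine ⟨⟨k * o * k⁻¹, hO'n.conj_mem _ o.2 k⟩, hWall _ ?_, rfl⟩
      rw [← Subgroup.orderOf_coe]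
      show (orderOf (k * (o : K1) * k⁻¹)).Coprime 3
      rw [show k * (o : K1) * k⁻¹ = MulAut.conj k o from rfl, MulEquiv.orderOf_eq, Subgroup.orderOf_coe]
      exact hW3.coprime_dvd_left (Subgroup.orderOf_dvd_natCard W ho)⟩
    (by rwa [card_map_of_injective O'.subtype_injective])
  rw [map_eq_bot_iff_of_injective _ O'.subtype_injective] at hWbot
  have hO'Z : ∀ k ∈ O', k ∈ Z := by
    intro k hk
    obtain ⟨o, ho, p, hp, e'⟩ := hWdec ⟨k, hk⟩
    rw [hWbot, mem_bot] at ho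
    subst ho
    have : (⟨k, hk⟩ : O') = p := e'.trans (one_mul p)
    rw [show k = _ from congrArg Subtype.val this]
    exact hp
  obtain ⟨k, hk, M, -, rfl⟩ := hK1s g hg
  refine mul_mem ?_ ⟨M, rfl⟩
  obtain ⟨o, ho, p, hp, hkp⟩ := hdec (π ⟨k, hk⟩)
  obtain ⟨o', rfl⟩ := QuotientGroup.mk'_surjective Z o
  rw [show π o' = 1 from (QuotientGroup.eq_one_iff o').2 (hO'Z o' ho)] at hkp
  obtain ⟨v, rfl⟩ := hPm.1 hp
  rcases hkp with hkp | hkp <;> rw [one_mul] at hkp
  · obtain ⟨s, hs⟩ := he_out _ v hkp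
    exact ⟨uT v s, (congrArg Subtype.val hs).symm⟩
  · rw [hIt] at hkp
    obtain ⟨s, hs⟩ := he_out (⟨k, hk⟩ * t) v (by rw [map_mul, hkp, mul_assoc, htb2, mul_one])
    refine ⟨uT v s * tS, ?_⟩
    rw [map_mul, show E.ι (uT v s) = k * E.ι tS from (congrArg Subtype.val hs).symm, mul_assoc, ← map_mul, tS_sq,
      map_one, mul_one]

end Emb

end Cfsg.Agent.Spor.L43Three
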