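import Cfsg.Agent.Lib.Spor.L43Three.One.CentX
import Cfsg.Agent.Lib.Spor.L43Three.One.CentU
import Cfsg.Agent.Lib.Spor.L43Three.Invol
import Cfsg.Agent.Lib.Spor.L43Three.Twist

/-!
The centraliser of the involution when `z` is isolated.
-/

set_option autoImplicit false
set_option linter.unusedSectionVars false
set_option maxRecDepth 10000
set_option maxHeartbeats 1000000

namespace Cfsg.Agent.Spor.L43Three

open Subgroup Matrix

universe u

/-- A Sylow three-subgroup from its normaliser. -/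
theorem exists_sylow_norm {K : Type u} [Group K] [Finite K] (D : Subgroup K) (hD : IsPGroup 3 D) (t : K)
    (ht2 : t * t = 1) (ht1 : t ≠ 1)
    (hN : ∀ g ∈ normalizer (D : Set K), g ∈ D ∨ ∃ p ∈ D, g = p * t) : ∃ P : Sylow 3 K, (P : Subgroup K) = D := by
  haveI : Fact (Nat.Prime 3) := ⟨Nat.prime_three⟩
  obtain ⟨P, hP⟩ := hD.exists_le_sylow
  refine ⟨P, le_antisymm ?_ hP⟩
  by_contra hne
  have hlt : D.subgroupOf (P : Subgroup K) < ⊤ := lt_top_iff_ne_top.2 fun h => hne (subgroupOf_eq_top.1 h)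
  haveI : Group.IsNilpotent (P : Subgroup K) := P.isPGroup'.isNilpotent
  obtain ⟨m, hm, hmD⟩ := SetLike.exists_of_lt (normalizerCondition_of_isNilpotent _ hlt)
  have hmN : (m : K) ∈ normalizer (D : Set K) := mem_normalizer_fintype fun x hx =>
    Inverted.mem_normalizer_conj (a := ⟨x, hP hx⟩) hm hx
  rcases hN m hmN with h | ⟨p, hp, h⟩
  · exact hmD h
  · have htP : t ∈ (P : Subgroup K) := by
      have := mul_mem (inv_mem (hP hp)) m.2
      rwa [h, inv_mul_cancel_left] at this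
    obtain ⟨k, hk⟩ := IsPGroup.iff_orderOf.1 P.isPGroup' ⟨t, htP⟩
    rw [Subgroup.orderOf_mk] at hk
    exact ht1 (orderOf_eq_one_iff.1 (Nat.eq_one_of_dvd_coprimes ((show Nat.Coprime 2 3 by norm_num).pow_right k)
      (orderOf_dvd_of_pow_eq_one (by rw [pow_two, ht2])) (hk ▸ dvd_rfl)))

/-- The elementary subgroup of order nine, by coordinates. -/
def tMat (v : Fin 2 → ZMod 3) : M4 := !![1, 0, 0, v 0; 0, 1, v 1, 0; 0, 0, 1, 0; 0, 0, 0, 1]

theorem tMat_det : ∀ v, (tMat v).det = 1 ∧ ∀ i, tMat v i 0 = if i = 0 then 1 else 0 := by decide +kernel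

/-- An element of the elementary subgroup. -/
def tEl (v : Fin 2 → ZMod 3) : Stab := mk4 (tMat v) (tMat_det v).1 (tMat_det v).2

theorem tEl_mul (v w : Fin 2 → ZMod 3) : tEl v * tEl w = tEl (v + w) := by
  refine Stab_ext ?_
  rw [Stab_mul_val]
  show tMat v * tMat w = tMat _
  ext i j
  fin_cases i <;> fin_cases j <;> simp [tMat, Matrix.mul_apply, Fin.sum_univ_four, add_comm]

theorem tEl_inj {v w : Fin 2 → ZMod 3} (h : tEl v = tEl w) : v = w := by
  have h' : tMat v = tMat w := congrArg (fun M : Stab => M.1.1) h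
  funext i
  fin_cases i
  · simpa [tMat] using congrFun (congrFun h' 0) 3
  · simpa [tMat] using congrFun (congrFun h' 1) 2

theorem tEl_z : tEl ![1, 0] = zS := Stab_ext (by decide +kernel)

theorem tEl_comm : ∀ v, tMat v * tI.1.1 = tI.1.1 * tMat v := by decide +kernel

theorem tEl_tS : ∀ v : Fin 2 → ZMod 3, tS.1.1 * tMat v * tS.1.1 = tMat (-v) := by decide +kernel

theorem tEl_tI_cube : ∀ v : Fin 2 → ZMod 3, tMat v * tI.1.1 * (tMat v * tI.1.1) * (tMat v * tI.1.1) ≠ 1 := by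
  decide +kernel

theorem tEl_cube : ∀ v : Fin 2 → ZMod 3, tMat v * tMat v * tMat v = 1 := by decide +kernel

theorem tI_tS : tI.1.1 * tS.1.1 = tS.1.1 * tI.1.1 := by decide +kernel

theorem tri_cases : ∀ p : Fin 6 → ZMod 3, det3 (ctM p) = 1 → p 3 = 0 → ∃ i j : Fin 2,
    eq4 (ctM p) (mul4 (mul4 (tMat ![p 0 * p 5, p 2 * p 4]) (if i = 0 then 1 else tI.1.1))
      (if j = 0 then 1 else tS.1.1)) = true := by
  decide +kernel

theorem zp_cases : ∀ p : Fin 6 → ZMod 3, det3 (ctM p) = 1 →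
    eq4 (mul4 (ctM p) (tMat ![1, 1])) (mul4 (tMat ![1, 1]) (ctM p)) = true →
    ∃ i : Fin 2, eq4 (ctM p) (mul4 (tMat ![p 0 * p 5, p 2 * p 4]) (if i = 0 then 1 else tI.1.1)) = true := by
  decide +kernel

/-- A conjugator for the representatives. -/
def tPerm : Stab := mk4 !![1, 0, 0, 0; 0, 1, 0, 0; 0, 0, 0, 2; 0, 0, 1, 0]

theorem tPerm_facts : tPerm.1.1 * repM 3 = tMat ![1, 1] * tPerm.1.1 ∧
    tPerm.1.1 * repM 2 = tMat ![1, 2] * tPerm.1.1 := by decide +kernel

/-- A conjugator for the second plane. -/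
def tPerm' : Stab := mk4 !![1, 0, 0, 0; 0, 1, 0, 0; 0, 0, 0, 1; 0, 0, 2, 0]

theorem tPerm'_fact : tPerm'.1.1 * repM 1 = tMat ![0, 1] * tPerm'.1.1 := by decide +kernel

theorem twist_two : twist (rep 2) = (rep 3)⁻¹ := by
  rw [eq_inv_iff_mul_eq_one]
  exact Stab_ext (by decide +kernel)

namespace Emb

variable {G : Type u} [Group G] [Finite G] (E : Emb G)

theorem cent_x' (hR : E.R ≤ E.ι.range) {g : G} (hg : Commute g (E.ι (rep 3))) : g ∈ E.ι.range := by
  rw [← E.twisted_range]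
  refine E.twisted.cent_x (by rw [E.twisted_range]; exact hR) ?_
  show Commute g (E.ι (twist (rep 2)))
  rw [twist_two, map_inv]
  exact hg.inv_right

theorem cent_of_conj {A B : Stab} {c : Stab} (h : c.1.1 * A.1.1 = B.1.1 * c.1.1)
    (hA : ∀ g : G, Commute g (E.ι A) → g ∈ E.ι.range) {g : G} (hg : Commute g (E.ι B)) : g ∈ E.ι.range := by
  have hc : c * A = B * c := Stab_ext (by rw [Stab_mul_val, Stab_mul_val]; exact h)
  have hc' : E.ι c * E.ι A = E.ι B * E.ι c := by rw [← map_mul, hc, map_mul]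
  have h1 : (E.ι c)⁻¹ * g * E.ι c ∈ E.ι.range := hA _ (by
    show _ = _
    calc (E.ι c)⁻¹ * g * E.ι c * E.ι A = (E.ι c)⁻¹ * g * (E.ι c * E.ι A) := by group
      _ = (E.ι c)⁻¹ * g * (E.ι B * E.ι c) := by rw [hc']
      _ = (E.ι c)⁻¹ * (g * E.ι B) * E.ι c := by group
      _ = (E.ι c)⁻¹ * (E.ι B * g) * E.ι c := by rw [hg.eq]
      _ = E.ι A * ((E.ι c)⁻¹ * g * E.ι c) := by
          rw [show (E.ι c)⁻¹ * (E.ι B * g) * E.ι c = (E.ι c)⁻¹ * (E.ι B * E.ι c) * (E.ι c)⁻¹ * g * E.ι c by group, ← hc']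
          group)
  have h2 := mul_mem (mul_mem (⟨c, rfl⟩ : E.ι c ∈ E.ι.range) h1) (inv_mem ⟨c, rfl⟩)
  rwa [show E.ι c * ((E.ι c)⁻¹ * g * E.ι c) * (E.ι c)⁻¹ = g by group] at h2

theorem cent_tEl (hR : E.R ≤ E.ι.range) (v : Fin 2 → ZMod 3) (hv : v ≠ 0) {g : G} (hg : Commute g (E.ι (tEl v))) :
    g ∈ E.ι.range := by
  have hbase : ∀ w : Fin 2 → ZMod 3, w = ![1, 0] ∨ w = ![0, 1] ∨ w = ![1, 1] ∨ w = ![1, 2] →
      ∀ x : G, Commute x (E.ι (tEl w)) → x ∈ E.ι.range := by
    rintro w (rfl | rfl | rfl | rfl) x hx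
    · rw [tEl_z] at hx; exact E.cz x hx
    · exact E.cent_of_conj (A := rep 1) (B := tEl ![0, 1]) (c := tPerm') tPerm'_fact (fun y hy => E.cent_u hR hy) hx
    · exact E.cent_of_conj (A := rep 3) (B := tEl ![1, 1]) (c := tPerm) tPerm_facts.1 (fun y hy => E.cent_x' hR hy) hx
    · exact E.cent_of_conj (A := rep 2) (B := tEl ![1, 2]) (c := tPerm) tPerm_facts.2 (fun y hy => E.cent_x hR hy) hx
  have key : ∀ v : Fin 2 → ZMod 3, v ≠ 0 → v = ![1, 0] ∨ v = ![0, 1] ∨ v = ![1, 1] ∨ v = ![1, 2] ∨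
      -v = ![1, 0] ∨ -v = ![0, 1] ∨ -v = ![1, 1] ∨ -v = ![1, 2] := by decide +kernel
  have hneg : tEl (-v) = (tEl v)⁻¹ := eq_inv_of_mul_eq_one_left (by
    rw [tEl_mul, neg_add_cancel]; exact Stab_ext (by decide +kernel))
  have hg' : Commute g (E.ι (tEl (-v))) := by rw [hneg, map_inv]; exact hg.inv_right
  rcases key v hv with h | h | h | h | h | h | h | h
  · exact hbase v (Or.inl h) g hg
  · exact hbase v (Or.inr (Or.inl h)) g hg
  · exact hbase v (Or.inr (Or.inr (Or.inl h))) g hg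
  · exact hbase v (Or.inr (Or.inr (Or.inr h))) g hg
  · exact hbase _ (Or.inl h) g hg'
  · exact hbase _ (Or.inr (Or.inl h)) g hg'
  · exact hbase _ (Or.inr (Or.inr (Or.inl h))) g hg'
  · exact hbase _ (Or.inr (Or.inr (Or.inr h))) g hg'

/-- The centraliser of the involution. -/
theorem cent_tI (hR : E.R ≤ E.ι.range) {g : G} (hg : Commute g (E.ι tI)) : g ∈ E.ι.range := by
  set K := centralizer ({E.ι tI} : Set G)
  have hK : ∀ {x : G}, x ∈ K ↔ Commute x (E.ι tI) := Subgroup.mem_centralizer_singleton_iff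
  let e : (Fin 2 → ZMod 3) → K := fun v => ⟨E.ι (tEl v), hK.2 (E.ι_commute.2 (Stab_ext (tEl_comm v)))⟩
  let tK : K := ⟨E.ι tI, hK.2 (Commute.refl _)⟩
  let sK : K := ⟨E.ι tS, hK.2 (E.ι_commute.2 (Stab_ext tI_tS.symm))⟩
  have htt : tK * tK = 1 := Subtype.ext (by show E.ι tI * E.ι tI = 1; rw [← map_mul, tI_sq, map_one])
  have htc : ∀ k : K, Commute k tK := fun k => Subtype.ext (hK.1 k.2).eq
  set Z := zpowers tK
  have hZ : ∀ x ∈ Z, x = 1 ∨ x = tK := by
    intro x hx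
    obtain ⟨i, rfl⟩ := mem_zpowers_iff.1 hx
    rcases Int.emod_two_eq_zero_or_one i with h | h
    · left; rw [zpow_eq_zpow_emod' i (n := 2) (by rw [pow_two, htt])]; simp [h]
    · right; rw [zpow_eq_zpow_emod' i (n := 2) (by rw [pow_two, htt])]; simp [h]
  haveI hZn : Z.Normal := ⟨fun x hx k => by
    rcases hZ x hx with rfl | rfl
    · simp
    · rw [(htc k).eq, mul_inv_cancel_right]; exact hx⟩
  set π := QuotientGroup.mk' Z
  let eb : (Fin 2 → ZMod 3) → K ⧸ Z := fun v => π (e v)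
  have he_mul : ∀ v w, e v * e w = e (v + w) := fun v w => Subtype.ext (by
    show E.ι (tEl v) * E.ι (tEl w) = E.ι (tEl (v + w))
    rw [← map_mul, tEl_mul])
  have heb_mul : ∀ v w, eb v * eb w = eb (v + w) := fun v w => by rw [← map_mul, he_mul]
  have he_out : ∀ (k : K) v, π k = eb v → k = e v ∨ k = e v * tK := by
    intro k v h
    rcases hZ _ (QuotientGroup.eq.1 h.symm) with h' | h'
    · exact Or.inl (eq_of_inv_mul_eq_one h').symm
    · exact Or.inr (inv_mul_eq_iff_eq_mul.1 h')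
  have hcube : ∀ v w : Fin 2 → ZMod 3, ∀ k : K, π (k * e v * k⁻¹) = eb w → k * e v * k⁻¹ = e w := by
    intro v w k h
    rcases he_out _ w h with h' | h'
    · exact h'
    · exfalso
      have h3 : (k * e v * k⁻¹) ^ 3 = 1 := by
        rw [conj_pow, show e v ^ 3 = 1 from ?_, mul_one, mul_inv_cancel]
        refine Subtype.ext ?_
        show E.ι (tEl v) ^ 3 = 1
        rw [← map_pow, pow_three, ← mul_assoc, show tEl v * tEl v * tEl v = 1 from Stab_ext (tEl_cube v), map_one]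
      rw [h'] at h3
      have h4 : E.ι (tEl w * tI * (tEl w * tI) * (tEl w * tI)) = 1 := by
        simp only [map_mul]
        have := congrArg Subtype.val h3
        rw [pow_three, ← mul_assoc] at this
        exact this
      exact tEl_tI_cube w (congrArg (fun M : Stab => M.1.1) (E.inj (h4.trans (map_one E.ι).symm)))
  have heb_inj : Function.Injective eb := fun v w h => by
    have := hcube v w 1 (by rw [one_mul, inv_one, mul_one]; exact h)
    rw [one_mul, inv_one, mul_one] at this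
    exact tEl_inj (E.inj (congrArg Subtype.val this))
  have heb_zero : eb 0 = 1 := by
    have h := heb_mul 0 0
    rw [add_zero] at h
    exact mul_left_cancel (h.trans (mul_one _).symm)
  set sb := π sK
  have hsb : ∀ v, sb * eb v * sb⁻¹ = eb (-v) := fun v => by
    rw [← map_inv, ← map_mul, ← map_mul, inv_eq_of_mul_eq_one_right (a := sK) (b := sK)
      (Subtype.ext (by show E.ι tS * E.ι tS = 1; rw [← map_mul, tS_sq, map_one]))]
    refine congrArg π (Subtype.ext ?_)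
    show E.ι tS * E.ι (tEl v) * E.ι tS = E.ι (tEl (-v))
    rw [← map_mul, ← map_mul, show tS * tEl v * tS = tEl (-v) from Stab_ext (tEl_tS v)]
  have hsb2 : sb * sb = 1 := by
    rw [← map_mul, show sK * sK = 1 from Subtype.ext (by show E.ι tS * E.ι tS = 1; rw [← map_mul, tS_sq, map_one]),
      map_one]
  have hsne : sb ≠ 1 := by
    intro h
    have h2 := hsb ![1, 0]
    rw [h, one_mul, inv_one, mul_one] at h2
    exact absurd (congrFun (heb_inj h2) 0) (by decide)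
  let hom : Multiplicative (Fin 2 → ZMod 3) →* K ⧸ Z :=
    MonoidHom.mk' (fun v => eb (Multiplicative.toAdd v)) fun v w => (heb_mul _ _).symm
  have hrng : ∀ {x : K ⧸ Z}, x ∈ hom.range ↔ ∃ v, eb v = x := fun {x} =>
    ⟨fun ⟨v, hv⟩ => ⟨_, hv⟩, fun ⟨v, hv⟩ => ⟨Multiplicative.ofAdd v, hv⟩⟩
  have hD3 : IsPGroup 3 hom.range := (IsPGroup.of_card (p := 3) (n := 2)
    (G := Multiplicative (Fin 2 → ZMod 3)) (by
      rw [Nat.card_congr Multiplicative.toAdd, Nat.card_fun, Nat.card_zmod, Nat.card_eq_fintype_card,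
        Fintype.card_fin])).of_surjective hom.rangeRestrict hom.rangeRestrict_surjective
  have hN : ∀ g ∈ normalizer ((hom.range : Subgroup (K ⧸ Z)) : Set (K ⧸ Z)),
      g ∈ hom.range ∨ ∃ p ∈ hom.range, g = p * sb := by
    intro g hgN
    obtain ⟨k, rfl⟩ := QuotientGroup.mk'_surjective Z g
    have hconj : ∀ v, ∃ w, k * e v * k⁻¹ = e w := fun v => by
      obtain ⟨w, hw⟩ := hrng.1 (Inverted.mem_normalizer_conj hgN (hrng.2 ⟨v, rfl⟩))
      exact ⟨w, hcube v w k (by rw [map_mul, map_mul, map_inv]; exact hw.symm)⟩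
    obtain ⟨w, hw⟩ := hconj ![1, 0]
    have hkr : (k : G) ∈ E.ι.range := hR (E.iso k (E.le ⟨tEl w, by
      rw [← tEl_z]; exact (congrArg Subtype.val hw).symm⟩))
    obtain ⟨M, hM⟩ := hkr
    have hMt : Commute M tI := E.ι_commute.1 (hM ▸ hK.1 k.2)
    obtain ⟨w', hw'⟩ := hconj ![0, 1]
    have hMp : M * tEl ![0, 1] = tEl w' * M := E.inj (by
      rw [map_mul, map_mul, hM]
      have := congrArg Subtype.val hw'
      show (k : G) * E.ι (tEl ![0, 1]) = E.ι (tEl w') * k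
      rw [← show (k : G) * E.ι (tEl ![0, 1]) * (k : G)⁻¹ = E.ι (tEl w') from this, inv_mul_cancel_right])
    obtain ⟨p, hp, hd⟩ := ct_shape hMt
    have hp3 : p 3 = 0 := by
      have h := congrFun (congrFun (congrArg (fun N : Stab => N.1.1) hMp) 2) 2
      simp only [Stab_mul_val, ← hp] at h
      simp [tEl, mk4_val, tMat, ctM, Matrix.mul_apply, Fin.sum_univ_four] at h
      linear_combination h
    obtain ⟨i, j, hij⟩ := tri_cases p hd hp3
    rw [eq4_iff, mul4_eq, mul4_eq, hp] at hij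
    set v : Fin 2 → ZMod 3 := ![p 0 * p 5, p 2 * p 4]
    have hti : π tK = 1 := (QuotientGroup.eq_one_iff _).2 (mem_zpowers _)
    fin_cases i <;> fin_cases j <;> simp at hij
    · refine Or.inl (hrng.2 ⟨v, congrArg π (Subtype.ext ?_)⟩)
      rw [← hM, show M = tEl v from Stab_ext hij]
    · refine Or.inr ⟨eb v, hrng.2 ⟨v, rfl⟩, ?_⟩
      rw [← map_mul]
      refine congrArg π (Subtype.ext ?_)
      rw [← hM, show M = tEl v * tS from Stab_ext hij, map_mul]; rfl
    · refine Or.inl (hrng.2 ⟨v, ?_⟩)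
      rw [show k = e v * tK from Subtype.ext (by rw [← hM, show M = tEl v * tI from Stab_ext hij, map_mul]; rfl),
        map_mul, hti, mul_one]
    · refine Or.inr ⟨eb v, hrng.2 ⟨v, rfl⟩, ?_⟩
      rw [show k = e v * tK * sK from Subtype.ext (by
        rw [← hM, show M = tEl v * tI * tS from Stab_ext hij, map_mul, map_mul]; rfl), map_mul, map_mul, hti, mul_one]
  obtain ⟨P, hP⟩ := exists_sylow_norm hom.range hD3 sb hsb2 hsne hN
  have hPm : ∀ {x : K ⧸ Z}, x ∈ (P : Subgroup (K ⧸ Z)) ↔ ∃ v, eb v = x := by intro x; rw [hP]; exact hrng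
  have hP' : ∀ v, eb v ∈ (P : Subgroup (K ⧸ Z)) := fun v => hPm.2 ⟨v, rfl⟩
  have hNP : ∀ g ∈ normalizer ((P : Subgroup (K ⧸ Z)) : Set (K ⧸ Z)),
      g ∈ (P : Subgroup (K ⧸ Z)) ∨ ∃ p ∈ (P : Subgroup (K ⧸ Z)), g = p * sb := by rw [hP]; exact hN
  have hab : ∀ x ∈ (P : Subgroup (K ⧸ Z)), ∀ y ∈ (P : Subgroup (K ⧸ Z)), Commute x y := by
    intro x hx y hy
    obtain ⟨v, rfl⟩ := hPm.1 hx
    obtain ⟨w, rfl⟩ := hPm.1 hy
    show _ = _
    rw [heb_mul, heb_mul, add_comm]
  let co' : ↥(P : Subgroup (K ⧸ Z)) → (Fin 2 → ZMod 3) := fun p => (hPm.1 p.2).choose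
  have hco : ∀ p : ↥(P : Subgroup (K ⧸ Z)), eb (co' p) = p := fun p => (hPm.1 p.2).choose_spec
  let φ : ↥(P : Subgroup (K ⧸ Z)) →* Multiplicative (Inverted.Vec 2) :=
    MonoidHom.mk' (fun p => Multiplicative.ofAdd (co' p)) fun p q => by
      rw [← ofAdd_add]
      refine congrArg _ (heb_inj ?_)
      rw [hco, ← heb_mul, hco, hco]; rfl
  have hφ : ∀ v (hv : eb v ∈ (P : Subgroup (K ⧸ Z))), φ ⟨eb v, hv⟩ = Multiplicative.ofAdd v := fun v hv =>
    congrArg Multiplicative.ofAdd (heb_inj (hco _))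
  have hnot : ∀ a : ↥(P : Subgroup (K ⧸ Z)), φ a ≠ 1 → ∀ p ∈ (P : Subgroup (K ⧸ Z)),
      ¬ Commute (p * sb) (a : K ⧸ Z) := by
    intro a ha p hp hc
    obtain ⟨v, hv⟩ := hPm.1 a.2
    obtain ⟨w, rfl⟩ := hPm.1 hp
    have ha' : a = ⟨eb v, hP' v⟩ := Subtype.ext hv.symm
    rw [ha', hφ] at ha
    have : eb (-v) = eb v := by
      have h := hc.eq
      rw [← hv] at h
      calc eb (-v) = (eb w)⁻¹ * (eb w * eb (-v)) := by group
        _ = (eb w)⁻¹ * (eb w * (sb * eb v * sb⁻¹)) := by rw [hsb]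
        _ = (eb w)⁻¹ * (eb w * sb * eb v) * sb⁻¹ := by group
        _ = (eb w)⁻¹ * (eb v * (eb w * sb)) * sb⁻¹ := by rw [h]
        _ = (eb w)⁻¹ * (eb v * eb w) := by group
        _ = eb v := by rw [(hab _ (hP' v) _ (hP' w)).eq]; group
    refine ha ?_
    have h2 := heb_inj this
    have key : ∀ v : Fin 2 → ZMod 3, -v = v → v = 0 := by decide +kernel
    rw [key v h2]; rfl
  have ht : ∀ p ∈ (P : Subgroup (K ⧸ Z)), sb * p * sb⁻¹ ∈ (P : Subgroup (K ⧸ Z)) := fun p hp => by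
    obtain ⟨v, rfl⟩ := hPm.1 hp
    rw [hsb]; exact hP' _
  haveI := Fintype.ofFinite (K ⧸ Z)
  let I : Inverted.Inv P 2 :=
    { φ := φ
      φ_surj := fun y => ⟨⟨eb (Multiplicative.toAdd y), hP' _⟩, by rw [hφ]; rfl⟩
      t := sb
      t_norm := ht
      t_φ := fun p => by
        obtain ⟨v, hv⟩ := hPm.1 p.2
        have e1 : p = ⟨eb v, hP' v⟩ := Subtype.ext hv.symm
        rw [e1, hφ]
        have e2 : (⟨sb * eb v * sb⁻¹, ht _ (hP' v)⟩ : ↥(P : Subgroup (K ⧸ Z))) = ⟨eb (-v), hP' _⟩ :=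
          Subtype.ext (hsb v)
        rw [e2, hφ]; rfl
      fus := fun a b ha g hgab => by
        haveI : Fact (Nat.Prime 3) := ⟨Nat.prime_three⟩
        have hcen : ∀ x ∈ (P : Subgroup (K ⧸ Z)), x ∈ centralizer ((P : Subgroup (K ⧸ Z)) : Set (K ⧸ Z)) :=
          fun x hx => mem_centralizer_iff.2 fun y hy => (hab y hy x hx).eq
        have hg' : (g⁻¹)⁻¹ * (a : K ⧸ Z) * g⁻¹ = b := by rw [inv_inv]; exact hgab
        obtain ⟨n, hn, hne⟩ := Sylow.conj_eq_normalizer_conj_of_mem_centralizer P (a : K ⧸ Z) g⁻¹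
          (hcen _ a.2) (by rw [hg']; exact hcen _ b.2)
        rw [hg'] at hne
        rcases hNP n⁻¹ (inv_mem hn) with h | ⟨p, hp, h⟩
        · exact ⟨n⁻¹, h, Or.inl (by rw [hne, inv_inv])⟩
        · refine ⟨p, hp, Or.inr ?_⟩
          rw [hne, ← inv_inv n, h]; group
      cent := fun a ha => by
        set C := centralizer ({(a : K ⧸ Z)} : Set (K ⧸ Z))
        have hPC : (P : Subgroup (K ⧸ Z)) ≤ C := fun x hx => mem_centralizer_singleton_iff.2 (hab x hx _ a.2).eq
        let S : Sylow 3 C := P.subtype hPC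
        have hSm : ∀ x : C, x ∈ (S : Subgroup C) ↔ (x : K ⧸ Z) ∈ (P : Subgroup (K ⧸ Z)) := fun x => by
          rw [Sylow.coe_subtype]; rfl
        obtain ⟨O, hO, hO3, hdec, -⟩ := Inverted.burnside S fun g hg => by
          have hgN : (g : K ⧸ Z) ∈ normalizer ((P : Subgroup (K ⧸ Z)) : Set (K ⧸ Z)) :=
            mem_normalizer_fintype fun x hx =>
              (hSm _).1 (Inverted.mem_normalizer_conj hg ((hSm ⟨x, hPC hx⟩).2 hx))
          rcases hNP _ hgN with h | ⟨p, hp, h⟩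
          · exact mem_centralizer_iff.2 fun x hx => Subtype.ext (hab _ ((hSm x).1 hx) _ h).eq
          · exact absurd (h ▸ (mem_centralizer_singleton_iff.1 g.2 : Commute (g : K ⧸ Z) a)) (hnot a ha p hp)
        refine ⟨O.map C.subtype, ?_, ?_, by rwa [card_map_of_injective C.subtype_injective], ?_⟩
        · rintro _ ⟨o, -, rfl⟩; exact mem_centralizer_singleton_iff.1 o.2
        · rintro c hc _ ⟨o, ho, rfl⟩
          exact ⟨⟨c, mem_centralizer_singleton_iff.2 hc⟩ * o * ⟨c, mem_centralizer_singleton_iff.2 hc⟩⁻¹,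
            hO.conj_mem o ho _, rfl⟩
        · intro c hc
          obtain ⟨o, ho, p, hp, e'⟩ := hdec ⟨c, mem_centralizer_singleton_iff.2 hc⟩
          exact ⟨o, ⟨o, ho, rfl⟩, p, (hSm p).1 hp, mem_centralizer_singleton_iff.1 p.2, congrArg Subtype.val e'⟩ }
  have hIφ : I.φ = φ := rfl
  have hIt : I.t = sb := rfl
  have hcube' : ∀ v, eb v ^ 3 = 1 := fun v => by
    rw [pow_three, heb_mul, heb_mul, ← heb_zero]
    refine congrArg eb (funext fun i => ?_)
    have key : ∀ c : ZMod 3, c + (c + c) = 0 := by decide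
    exact key _
  set a : Fin 2 → ZMod 3 := ![1, 1]
  set b : Fin 2 → ZMod 3 := ![0, 1]
  have hca : ∀ c : K ⧸ Z, Commute c (eb a) → c ∈ (P : Subgroup (K ⧸ Z)) := by
    intro c hc
    obtain ⟨k, rfl⟩ := QuotientGroup.mk'_surjective Z c
    have hk := hcube a a k (by rw [map_mul, map_mul, map_inv]; show π k * eb a * (π k)⁻¹ = _; rw [hc.eq, mul_inv_cancel_right])
    have hkc : Commute (k : G) (E.ι (tEl a)) := by
      have h := congrArg Subtype.val hk
      show (k : G) * E.ι (tEl a) = E.ι (tEl a) * k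
      exact mul_inv_eq_iff_eq_mul.1 h
    obtain ⟨M, hM⟩ := E.cent_tEl hR a (by decide) hkc
    have hMt : Commute M tI := E.ι_commute.1 (hM ▸ hK.1 k.2)
    have hMa : Commute M (tEl a) := E.ι_commute.1 (hM ▸ hkc)
    obtain ⟨p, hp, hd⟩ := ct_shape hMt
    obtain ⟨i, hi⟩ := zp_cases p hd (by
      rw [eq4_iff, mul4_eq, mul4_eq, hp]; exact congrArg (fun N : Stab => N.1.1) hMa.eq)
    rw [eq4_iff, mul4_eq, hp] at hi
    set v : Fin 2 → ZMod 3 := ![p 0 * p 5, p 2 * p 4]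
    refine hPm.2 ⟨v, ?_⟩
    fin_cases i <;> simp at hi
    · exact congrArg π (Subtype.ext (by rw [← hM, show M = tEl v from Stab_ext hi]))
    · rw [show k = e v * tK from Subtype.ext (by rw [← hM, show M = tEl v * tI from Stab_ext hi, map_mul]; rfl),
        map_mul, show π tK = 1 from (QuotientGroup.eq_one_iff _).2 (mem_zpowers _), mul_one]
  obtain ⟨O, hOn, hO3, hdec⟩ := I.exists_core Inverted.good_two ⟨eb a, hP' _⟩ ⟨eb b, hP' _⟩ (hcube' _) (hcube' _)
    (by
      rw [hIφ, hφ]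
      intro e'
      exact absurd (congrFun (congrArg Multiplicative.toAdd e') 0) (by simp [a]))
    (by
      refine isConj_iff.2 ⟨sb, ?_⟩
      show sb * (eb b)⁻¹ * sb⁻¹ = eb b
      rw [show sb * (eb b)⁻¹ * sb⁻¹ = (sb * eb b * sb⁻¹)⁻¹ by group, hsb]
      exact inv_eq_of_mul_eq_one_right (by rw [heb_mul, neg_add_cancel, heb_zero]))
    (by
      intro k
      show Multiplicative.toAdd (I.φ _) ≠ k • Multiplicative.toAdd (I.φ _)
      rw [hIφ, hφ, hφ]
      intro e'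
      have h0 := congrFun e' 0
      have h1 := congrFun e' 1
      simp [a, b] at h0 h1
      exact absurd (h1.trans h0.symm) (by decide))
    hca
    (by
      rw [← Nat.card_congr (Equiv.ofBijective (fun v => (⟨eb v, mem_centralizer_singleton_iff.2
        (hab _ (hP' v) _ (hP' a)).eq⟩ : centralizer ({eb a} : Set (K ⧸ Z)))) ⟨fun v w e' =>
          heb_inj (congrArg Subtype.val e'), fun c => ?_⟩), Nat.card_fun, Nat.card_zmod, Nat.card_eq_fintype_card,
        Fintype.card_fin]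
      obtain ⟨v, hv⟩ := hPm.1 (hca c (mem_centralizer_singleton_iff.1 c.2))
      exact ⟨v, Subtype.ext hv⟩)
    (by
      intro x hx1 hxφ _
      obtain ⟨v, hv⟩ := hPm.1 x.2
      have hx : x = ⟨eb v, hP' v⟩ := Subtype.ext hv.symm
      rw [hx, hIφ, hφ] at hxφ
      refine absurd ?_ hx1
      rw [hx]
      refine Subtype.ext ?_
      show eb v = 1
      rw [show v = 0 from Multiplicative.ofAdd.injective hxφ, heb_zero])
    (by
      rw [hIt]
      intro x hx
      obtain ⟨v, rfl⟩ := hPm.1 hx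
      refine subset_closure ⟨eb v, hP' v, ?_⟩
      rw [hsb, eq_inv_mul_iff_mul_eq, heb_mul]
      refine congrArg eb (funext fun i => ?_)
      have key : ∀ c : ZMod 3, c + c = -c := by decide
      exact key _)
    (by rw [hIt]; exact hNP) (Or.inl hab)
  -- the preimage of the core is generated by centralisers
  haveI hOn' : (O.comap π).Normal := hOn.comap π
  have hZO : Z ≤ O.comap π := fun x hx => by
    show π x ∈ O
    rw [show π x = 1 from (QuotientGroup.eq_one_iff x).2 hx]; exact one_mem _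
  have hW3 : (Nat.card ((O.comap π).map K.subtype)).Coprime 3 := by
    rw [card_map_of_injective K.subtype_injective, ← (Z.subgroupOf (O.comap π)).card_mul_index,
      Nat.card_congr (subgroupOfEquivOfLe hZO).toEquiv]
    refine Nat.Coprime.mul_left ?_ ?_
    · rw [Nat.card_zpowers]
      exact Nat.Coprime.coprime_dvd_left (orderOf_dvd_of_pow_eq_one (by rw [pow_two, htt])) (by norm_num)
    · have h' := Subgroup.relIndex_ker (f := π) (O.comap π)
      rw [QuotientGroup.ker_mk', map_comap_eq_self_of_surjective (QuotientGroup.mk'_surjective Z)] at h'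
      rw [← relIndex, h']; exact hO3
  have hnorm : ∀ v, ∀ w ∈ (O.comap π).map K.subtype, E.ι (tEl v) * w * (E.ι (tEl v))⁻¹ ∈ (O.comap π).map K.subtype := by
    rintro v _ ⟨o, ho, rfl⟩
    exact ⟨e v * o * (e v)⁻¹, hOn'.conj_mem o ho _, rfl⟩
  have hle : (O.comap π).map K.subtype ≤ E.ι.range := by
    refine le_of_nine (a := E.ι (tEl ![1, 0])) (b := E.ι (tEl ![0, 1])) ?_ ?_ ?_ ?_ ?_ hW3 (hnorm _) (hnorm _) ?_
    · exact E.ι_commute.2 (by show _ = _; rw [tEl_mul, tEl_mul, add_comm])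
    · exact E.ι_cube.2 (by rw [pow_three, ← mul_assoc]; exact Stab_ext (tEl_cube _))
    · exact E.ι_cube.2 (by rw [pow_three, ← mul_assoc]; exact Stab_ext (tEl_cube _))
    · intro h
      have := E.inj (h.trans (map_one E.ι).symm)
      have h2 := congrFun (congrFun (congrArg (fun M : Stab => M.1.1) this) 0) 3
      simp [tEl, mk4_val, tMat, Stab_one_val] at h2
    · intro h
      obtain ⟨i, hi⟩ := mem_zpowers_iff.1 h
      rw [← map_zpow] at hi
      have hi' := E.inj hi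
      have h3 : tEl ![1, 0] ^ 3 = 1 := by rw [pow_three, ← mul_assoc]; exact Stab_ext (tEl_cube _)
      rw [zpow_eq_zpow_emod' i h3, show i % (3 : ℕ) = ((i % 3).toNat : ℤ) by omega, zpow_natCast] at hi'
      have key : ∀ m : Fin 3, (tEl ![1, 0] ^ (m : ℕ)).1.1 ≠ (tEl ![0, 1]).1.1 := by decide +kernel
      exact key ⟨(i % 3).toNat, by omega⟩ (congrArg (fun M : Stab => M.1.1) hi')
    · intro h hh h1 w _ hcw
      let T' : Subgroup G :=
        { carrier := {x | ∃ v, E.ι (tEl v) = x}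
          one_mem' := ⟨0, by rw [show tEl 0 = 1 from Stab_ext (by decide +kernel), map_one]⟩
          mul_mem' := by rintro _ _ ⟨v, rfl⟩ ⟨w, rfl⟩; exact ⟨v + w, by rw [← map_mul, tEl_mul]⟩
          inv_mem' := by
            rintro _ ⟨v, rfl⟩
            refine ⟨-v, eq_inv_of_mul_eq_one_left ?_⟩
            rw [← map_mul, tEl_mul, neg_add_cancel, show tEl 0 = 1 from Stab_ext (by decide +kernel), map_one] }
      have hmem : h ∈ T' := (closure_le (K := T')).2 (by rintro x (rfl | rfl) <;> exact ⟨_, rfl⟩) hh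
      obtain ⟨v, rfl⟩ := hmem
      refine E.cent_tEl hR v (fun e' => h1 ?_) hcw
      rw [e', show tEl 0 = 1 from Stab_ext (by decide +kernel), map_one]
  obtain ⟨o, ho, p, hp, hgp⟩ := hdec (π ⟨g, hK.2 hg⟩)
  obtain ⟨o', rfl⟩ := QuotientGroup.mk'_surjective Z o
  obtain ⟨v, rfl⟩ := hPm.1 hp
  have hout : ∀ k : K, π k = 1 → (k : G) ∈ E.ι.range := fun k hk => by
    rcases hZ k ((QuotientGroup.eq_one_iff k).1 hk) with rfl | rfl
    exacts [one_mem _, ⟨tI, rfl⟩]
  rcases hgp with hgp | hgp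
  · have h1 := hout ((o' * e v)⁻¹ * ⟨g, hK.2 hg⟩) (by rw [map_mul, map_inv, hgp, map_mul, inv_mul_cancel])
    have h2 := mul_mem (mul_mem (hle ⟨o', ho, rfl⟩) (⟨tEl v, rfl⟩ : E.ι (tEl v) ∈ E.ι.range)) h1
    change (o' : G) * E.ι (tEl v) * (((o' : G) * E.ι (tEl v))⁻¹ * g) ∈ _ at h2
    rwa [mul_inv_cancel_left] at h2
  · rw [hIt] at hgp
    have h1 := hout ((o' * e v * sK)⁻¹ * ⟨g, hK.2 hg⟩) (by rw [map_mul, map_inv, hgp, map_mul, map_mul, inv_mul_cancel])
    have h2 := mul_mem (mul_mem (mul_mem (hle ⟨o', ho, rfl⟩) (⟨tEl v, rfl⟩ : E.ι (tEl v) ∈ E.ι.range))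
      (⟨tS, rfl⟩ : E.ι tS ∈ E.ι.range)) h1
    change (o' : G) * E.ι (tEl v) * E.ι tS * (((o' : G) * E.ι (tEl v) * E.ι tS)⁻¹ * g) ∈ _ at h2
    rwa [mul_inv_cancel_left] at h2

end Emb

end Cfsg.Agent.Spor.L43Three
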