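import Cfsg.Agent.Lib.Spor.L43Three.One.Core

/-!
The centraliser of an element of type `x` when `z` is isolated.
-/

set_option autoImplicit false
set_option linter.unusedSectionVars false
set_option maxRecDepth 10000
set_option maxHeartbeats 1000000

namespace Cfsg.Agent.Spor.L43Three

open Subgroup Matrix
open scoped commutatorElement

universe u

/-- The kernel coordinate. -/
def chiX (M : Stab) : ZMod 3 := M.1.1 0 2 + M.1.1 1 1 * M.1.1 1 3 - M.1.1 1 1 * M.1.1 0 1 * M.1.1 1 2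

theorem shape_x {M : Stab} (h : Commute M (rep 2)) : M.1.1 2 1 = 0 ∧ M.1.1 3 1 = 0 ∧ M.1.1 3 2 = 0 ∧
    M.1.1 2 2 = 1 ∧ M.1.1 3 3 = M.1.1 1 1 ∧ M.1.1 2 3 = M.1.1 0 1 ∧ M.1.1 1 1 * M.1.1 1 1 = 1 := by
  have m := congrArg (fun B : Stab => B.1.1) h.eq
  simp only [Stab_mul_val, show (rep 2).1.1 = repM 2 from rfl] at m
  have k : ∀ i j, (M.1.1 * repM 2) i j = (repM 2 * M.1.1) i j := fun i j => by rw [m]
  have a0 := M.2 0
  have a1 := M.2 1
  have a2 := M.2 2
  have a3 := M.2 3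
  simp at a0 a1 a2 a3
  have b01 := k 0 1
  have b11 := k 1 1
  have b02 := k 0 2
  have b03 := k 0 3
  have b12 := k 1 2
  have b13 := k 1 3
  simp [repM, Matrix.mul_apply, Fin.sum_univ_four, a0, a1, a2, a3] at b01 b11 b02 b03 b12 b13
  have e21 : M.1.1 2 1 = 0 := by linear_combination b01
  have e31 : M.1.1 3 1 = 0 := by linear_combination b11
  have e22 : M.1.1 2 2 = 1 := by linear_combination -b02
  have e23 : M.1.1 2 3 = M.1.1 0 1 := by linear_combination -b03
  have e32 : M.1.1 3 2 = 0 := by linear_combination b12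
  have e33 : M.1.1 3 3 = M.1.1 1 1 := by linear_combination -b13
  refine ⟨e21, e31, e32, e22, e33, e23, ?_⟩
  have hd := M.1.2
  rw [Stab_eq_aff M, det_eq_det3] at hd
  simp [det3, aff, lowBlock] at hd
  simp [e21, e31, e32, e22, e33] at hd
  linear_combination hd

theorem chiX_mul {M N : Stab} (hM : Commute M (rep 2)) (hN : Commute N (rep 2)) :
    chiX (M * N) = chiX M + chiX N := by
  obtain ⟨a1, a2, a3, a4, a5, a6, a7⟩ := shape_x hM
  obtain ⟨b1, b2, b3, b4, b5, b6, b7⟩ := shape_x hN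
  have c0 := M.2 0
  have c1 := M.2 1
  have d0 := N.2 0
  have d1 := N.2 1
  have d2 := N.2 2
  have d3 := N.2 3
  simp at c0 c1 d0 d1 d2 d3
  simp only [chiX, Stab_mul_val, Matrix.mul_apply, Fin.sum_univ_four, a1, a2, a3, a4, a5, a6, b1, b2, b3, b4, b5, b6,
    c0, c1, d0, d1, d2, d3]
  ring_nf
  grobner

/-- The elements of the kernel, by coordinates. -/
def xM (w : Fin 4 → ZMod 3) : M4 :=
  !![1, w 0, w 2, w 3; 0, 1, w 1, w 0 * w 1 - w 2; 0, 0, 1, w 0; 0, 0, 0, 1]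

theorem xM_det : ∀ w, (xM w).det = 1 ∧ ∀ i, xM w i 0 = if i = 0 then 1 else 0 := by decide +kernel

/-- An element of the kernel. -/
def xT (w : Fin 4 → ZMod 3) : Stab := mk4 (xM w) (xM_det w).1 (xM_det w).2

/-- Their product in coordinates. -/
def xmul (u w : Fin 4 → ZMod 3) : Fin 4 → ZMod 3 :=
  ![u 0 + w 0, u 1 + w 1, u 2 + w 2 + u 0 * w 1, u 3 + w 3 + u 0 * (w 0 * w 1 - w 2) + u 2 * w 0]

theorem xT_mul (u w : Fin 4 → ZMod 3) : xT u * xT w = xT (xmul u w) := by
  refine Stab_ext ?_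
  rw [Stab_mul_val]
  show xM u * xM w = xM (xmul u w)
  ext i j
  fin_cases i <;> fin_cases j <;> simp [xM, xmul, Matrix.mul_apply, Fin.sum_univ_four] <;> ring

theorem xT_inj {u w : Fin 4 → ZMod 3} (h : xT u = xT w) : u = w := by
  have h' : xM u = xM w := congrArg (fun M : Stab => M.1.1) h
  funext i
  fin_cases i
  · simpa [xM] using congrFun (congrFun h' 0) 1
  · simpa [xM] using congrFun (congrFun h' 1) 2
  · simpa [xM] using congrFun (congrFun h' 0) 2
  · simpa [xM] using congrFun (congrFun h' 0) 3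

/-- The kernel in the centraliser of the representative. -/
def TX : Subgroup Stab where
  carrier := {M | M ∈ U4 ∧ Commute M (rep 2) ∧ chiX M = 0}
  one_mem' := ⟨one_mem _, Commute.one_left _, by simp [chiX, Stab_one_val, Matrix.one_apply]⟩
  mul_mem' := fun ⟨a1, a2, a3⟩ ⟨b1, b2, b3⟩ =>
    ⟨mul_mem a1 b1, a2.mul_left b2, by rw [chiX_mul a2 b2, a3, b3, add_zero]⟩
  inv_mem' := fun {M} ⟨a1, a2, a3⟩ => ⟨inv_mem a1, a2.inv_left, by
    have h := chiX_mul a2 a2.inv_left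
    rw [mul_inv_cancel, a3, zero_add, show chiX (1 : Stab) = 0 by simp [chiX, Stab_one_val, Matrix.one_apply]] at h
    exact h.symm⟩

theorem xM_comm : ∀ w, xM w * repM 2 = repM 2 * xM w := by decide +kernel

theorem xM_chi : ∀ w, xM w 0 2 + xM w 1 1 * xM w 1 3 - xM w 1 1 * xM w 0 1 * xM w 1 2 = 0 := by decide +kernel

theorem xM_tri : ∀ w, ∀ i j : Fin 4, j ≤ i → xM w i j = if i = j then 1 else 0 := fun w i j hij => by
  fin_cases i <;> fin_cases j <;> first | rfl | exact absurd hij (by decide)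

theorem xM_t : ∀ w : Fin 4 → ZMod 3, tS.1.1 * xM w * tS.1.1 = xM ![-w 0, -w 1, w 2, -w 3] := by decide +kernel

theorem chiX_tS : chiX tS = 0 := by decide +kernel

theorem xT_z : xT ![0, 0, 0, 1] = zS := Stab_ext (by decide +kernel)

theorem xT_mem (w : Fin 4 → ZMod 3) : xT w ∈ TX :=
  ⟨xM_tri w, Stab_ext (xM_comm w), xM_chi w⟩

theorem xT_surj {M : Stab} (h : M ∈ TX) : ∃ w, xT w = M := by
  obtain ⟨hU, hc, hχ⟩ := h
  obtain ⟨-, -, -, -, -, e6, -⟩ := shape_x hc
  refine ⟨![M.1.1 0 1, M.1.1 1 2, M.1.1 0 2, M.1.1 0 3], Stab_ext ?_⟩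
  have e11 := hU 1 1 le_rfl
  simp at e11
  rw [chiX, e11] at hχ
  show xM _ = M.1.1
  ext i j
  by_cases hij : j ≤ i
  · rw [hU i j hij]; fin_cases i <;> fin_cases j <;> first | rfl | exact absurd hij (by decide)
  · fin_cases i <;> fin_cases j <;> first | exact absurd (by decide) hij | skip
    all_goals simp [xM, e6]
    linear_combination -hχ

/-- The coordinates on the kernel. -/
def phiX : TX →* Multiplicative (Inverted.Vec 2) := MonoidHom.mk'
  (fun M => Multiplicative.ofAdd ![M.1.1.1 1 2, M.1.1.1 0 1]) fun M N => by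
    obtain ⟨u, hu⟩ := xT_surj M.2
    obtain ⟨w, hw⟩ := xT_surj N.2
    rw [← ofAdd_add]
    refine congrArg _ ?_
    rw [show (M * N).1 = M.1 * N.1 from rfl, ← hu, ← hw, xT_mul]
    funext i
    fin_cases i <;> simp [xT, mk4_val, xM, xmul]

theorem phiX_xT (w : Fin 4 → ZMod 3) : phiX ⟨xT w, xT_mem w⟩ = Multiplicative.ofAdd ![w 1, w 0] := rfl

theorem xT_t (w : Fin 4 → ZMod 3) : tS * xT w * tS = xT ![-w 0, -w 1, w 2, -w 3] :=
  Stab_ext (xM_t w)

/-- Commutation in coordinates. -/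
def xcomm (u w : Fin 4 → ZMod 3) : Prop := xmul u w = xmul w u

theorem xT_comm {u w : Fin 4 → ZMod 3} : Commute (xT u) (xT w) ↔ xcomm u w := by
  constructor
  · intro h; exact xT_inj (by rw [← xT_mul, ← xT_mul, h.eq])
  · intro h; show _ = _; rw [xT_mul, xT_mul, h]

theorem xcomm_abelian : ∀ v x y : Fin 3 → ZMod 3, (v 0 ≠ 0 ∨ v 1 ≠ 0) →
    xcomm ![v 0, v 1, v 2, 0] ![x 0, x 1, x 2, 0] → xcomm ![v 0, v 1, v 2, 0] ![y 0, y 1, y 2, 0] →
    xcomm ![x 0, x 1, x 2, 0] ![y 0, y 1, y 2, 0] := by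
  unfold xcomm; decide +kernel

theorem xcomm_last {u w : Fin 4 → ZMod 3} :
    xcomm u w ↔ xcomm ![u 0, u 1, u 2, 0] ![w 0, w 1, w 2, 0] := by
  simp only [xcomm, funext_iff, Fin.forall_fin_succ, xmul]
  simp [add_comm, add_left_comm]
  ring_nf
  simp [add_right_inj]

theorem x_not_comm : ∀ w : Fin 4 → ZMod 3,
    xM w * tS.1.1 * xM ![1, 0, 0, 0] ≠ xM ![1, 0, 0, 0] * (xM w * tS.1.1) ∧
    xM w * tS.1.1 * zS.1.1 ≠ zS.1.1 * (xM w * tS.1.1) := by decide +kernel

theorem x_gens : ∀ w : Fin 4 → ZMod 3, ∃ j k : Fin 3, ∃ l m : Fin 3, xT w =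
    xT ![0, 0, 0, 1] ^ (k : ℕ) * ⁅xT ![1, 0, 0, 0], xT ![0, 1, 0, 0]⁆ ^ (j : ℕ) * xT ![0, 1, 0, 0] ^ (l : ℕ) *
      xT ![1, 0, 0, 0] ^ (m : ℕ) := by decide +kernel

namespace Emb

variable {G : Type u} [Group G] [Finite G] (E : Emb G)

/-- The centraliser of the element of type `x`. -/
theorem cent_x (hR : E.R ≤ E.ι.range) {g : G} (hg : Commute g (E.ι (rep 2))) : g ∈ E.ι.range := by
  obtain ⟨K1, hK1c, hK1n, hK1m, hK1s⟩ := E.exists_kernel hR (q := rep 2) (Stab_ext (by decide +kernel))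
    (Stab_ext (by decide +kernel)) chiX (fun M N hM hN => chiX_mul hM hN) (by decide +kernel) fun M hM => by
      obtain ⟨a1, a2, a3, a4, a5, -, -⟩ := shape_x hM
      exact cover_of_tri a1 a2 a3 (fun _ => a4) a5
  set D := (TX.map E.ι).subgroupOf K1 with hD
  have htK : E.ι tS ∈ K1 := (hK1m tS).2 ⟨Stab_ext (by decide +kernel), by decide +kernel⟩
  let t : K1 := ⟨E.ι tS, htK⟩
  have htt : t * t = 1 := Subtype.ext (by
    show E.ι tS * E.ι tS = 1
    rw [← map_mul, tS_sq, map_one])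
  have hmem : ∀ w, E.ι (xT w) ∈ K1 := fun w => (hK1m _).2 ⟨(xT_mem w).2.1, (xT_mem w).2.2⟩
  let el' : (Fin 4 → ZMod 3) → K1 := fun w => ⟨E.ι (xT w), hmem w⟩
  have hel : ∀ {k : K1}, k ∈ D ↔ ∃ w, el' w = k := by
    intro k
    rw [mem_subgroupOf]
    constructor
    · rintro ⟨M, hM, he⟩
      obtain ⟨w, rfl⟩ := xT_surj hM
      exact ⟨w, Subtype.ext he⟩
    · rintro ⟨w, rfl⟩; exact ⟨_, xT_mem w, rfl⟩
  have hD3 : IsPGroup 3 D := by
    refine ((U4_isPGroup.to_le (fun M (hM : M ∈ TX) => hM.1)).map E.ι).of_injective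
      (K1.subtype.comp D.subtype |>.codRestrict (TX.map E.ι) fun k => k.2) ?_
    intro a b h
    exact Subtype.ext (Subtype.ext (congrArg (fun k : TX.map E.ι => (k : G)) h))
  have hrange : ∀ k : K1, (k : G) ∈ E.ι.range → k ∈ D ∨ ∃ p ∈ D, k = p * t := by
    intro k hk
    obtain ⟨M, hM⟩ := hk
    obtain ⟨hMq, hMχ⟩ := (hK1m M).1 (hM ▸ k.2)
    obtain ⟨a1, a2, a3, a4, a5, -, -⟩ := shape_x hMq
    rcases cover_of_tri a1 a2 a3 (fun _ => a4) a5 with h | h
    · exact Or.inl ⟨M, ⟨h, hMq, hMχ⟩, hM⟩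
    · have htq : Commute tS (rep 2) := Stab_ext (by decide +kernel)
      have h' : M * tS ∈ TX := ⟨h, hMq.mul_left htq, by
        rw [chiX_mul hMq htq, hMχ, chiX_tS, add_zero]⟩
      obtain ⟨w, hw⟩ := xT_surj h'
      refine Or.inr ⟨el' w, hel.2 ⟨w, rfl⟩, Subtype.ext ?_⟩
      show (k : G) = E.ι (xT w) * E.ι tS
      rw [← map_mul, hw, mul_assoc, tS_sq, mul_one, hM]
  let zK : K1 := el' ![0, 0, 0, 1]
  have hzS := xT_z
  have hiso : ∀ g : K1, g * zK * g⁻¹ ∈ D → g ∈ D ∨ ∃ p ∈ D, g = p * t := fun g hg => by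
    refine hrange g (hR (E.iso g ?_))
    obtain ⟨w, hw⟩ := hel.1 hg
    have := congrArg Subtype.val hw
    refine E.le ⟨xT w, this.trans ?_⟩
    show (g : G) * E.ι (xT ![0, 0, 0, 1]) * (g : G)⁻¹ = _
    rw [hzS]
  obtain ⟨P, hP⟩ := exists_sylow_iso D hD3 zK t (hel.2 ⟨_, rfl⟩) htt
    (fun h => tS_ne (E.inj ((congrArg Subtype.val h).trans (map_one E.ι).symm))) hiso
  have hPm : ∀ {k : K1}, k ∈ (P : Subgroup K1) ↔ ∃ w, el' w = k := by rw [hP]; exact hel
  let eqv : ↥(P : Subgroup K1) → TX := fun p => ⟨xT (hPm.1 p.2).choose, xT_mem _⟩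
  have heqv : ∀ (p : ↥(P : Subgroup K1)), E.ι (eqv p : Stab) = ((p : K1) : G) := fun p =>
    congrArg Subtype.val (hPm.1 p.2).choose_spec
  let f : ↥(P : Subgroup K1) →* TX := MonoidHom.mk' eqv fun p q => Subtype.ext (E.inj (by
    rw [heqv, show ((eqv p * eqv q : TX) : Stab) = (eqv p : Stab) * (eqv q : Stab) from rfl, map_mul, heqv, heqv]
    rfl))
  let φ := phiX.comp f
  have hφ : ∀ w (h : el' w ∈ (P : Subgroup K1)), φ ⟨el' w, h⟩ = Multiplicative.ofAdd ![w 1, w 0] := fun w h => by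
    show phiX (eqv _) = _
    rw [← phiX_xT w]
    exact congrArg phiX (Subtype.ext (E.inj (heqv _)))
  have hP' : ∀ w, el' w ∈ (P : Subgroup K1) := fun w => hPm.2 ⟨w, rfl⟩
  have htw : ∀ w, t * el' w * t⁻¹ = el' ![-w 0, -w 1, w 2, -w 3] := fun w => by
    rw [inv_eq_of_mul_eq_one_right htt]
    refine Subtype.ext ?_
    show E.ι tS * E.ι (xT w) * E.ι tS = E.ι (xT _)
    rw [← map_mul, ← map_mul, xT_t]
  have ht : ∀ p ∈ (P : Subgroup K1), t * p * t⁻¹ ∈ (P : Subgroup K1) := fun p hp => by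
    obtain ⟨w, rfl⟩ := hPm.1 hp
    rw [htw]; exact hP' _
  have hcomm : ∀ u w, Commute (el' u) (el' w) ↔ xcomm u w := fun u w => by
    rw [← xT_comm]
    exact ⟨fun h => E.ι_commute.1 (congrArg Subtype.val h.eq), fun h => Subtype.ext (E.ι_commute.2 h)⟩
  have hzP : ∀ p ∈ (P : Subgroup K1), Commute zK p := fun p hp => by
    obtain ⟨w, rfl⟩ := hPm.1 hp
    exact (hcomm _ _).2 (xcomm_last.2 (by simp [xcomm, xmul]))
  have hisoP : ∀ g : K1, g * zK * g⁻¹ ∈ (P : Subgroup K1) →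
      g ∈ (P : Subgroup K1) ∨ ∃ p ∈ (P : Subgroup K1), g = p * t := by rw [hP]; exact hiso
  obtain ⟨I, hIφ, hIt⟩ := Inverted.exists_inv (n := 2) φ (fun y => by
      refine ⟨⟨el' ![Multiplicative.toAdd y 1, Multiplicative.toAdd y 0, 0, 0], hP' _⟩, ?_⟩
      rw [hφ]
      apply Multiplicative.toAdd.injective
      funext i; fin_cases i <;> rfl)
    t ht (fun p => by
      obtain ⟨w, hw⟩ := hPm.1 p.2
      have e : p = ⟨el' w, hP' w⟩ := Subtype.ext hw.symm
      rw [e, hφ]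
      have e2 : (⟨t * el' w * t⁻¹, ht _ (hP' w)⟩ : (P : Subgroup K1)) =
          ⟨el' ![-w 0, -w 1, w 2, -w 3], hP' _⟩ := Subtype.ext (htw w)
      rw [e2, hφ, ← ofAdd_neg]
      refine congrArg _ ?_
      funext i; fin_cases i <;> rfl)
    zK (hP' _) hzP hisoP fun v x y hv hxv hyv => by
      obtain ⟨a, ha⟩ := hPm.1 v.2
      obtain ⟨b, hb⟩ := hPm.1 x.2
      obtain ⟨c, hc⟩ := hPm.1 y.2
      have ev : v = ⟨el' a, hP' a⟩ := Subtype.ext ha.symm
      rw [ev, hφ] at hv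
      have key : ∀ {p q : (P : Subgroup K1)}, Commute p q → Commute (p : K1) q := fun h => congrArg Subtype.val h.eq
      have h1 := key hxv
      have h2 := key hyv
      rw [← hb, ← ha, hcomm] at h1
      rw [← hc, ← ha, hcomm] at h2
      refine Subtype.ext ?_
      show (x : K1) * y = y * x
      rw [← hb, ← hc]
      refine ((hcomm _ _).2 (xcomm_last.2 (xcomm_abelian ![a 0, a 1, a 2] ![b 0, b 1, b 2] ![c 0, c 1, c 2] ?_ ?_ ?_))).eq
      · by_contra h
        simp only [not_or, not_not, Matrix.cons_val_zero, Matrix.cons_val_one] at h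
        refine hv ?_
        rw [h.1, h.2]
        exact congrArg Multiplicative.ofAdd (by funext i; fin_cases i <;> rfl)
      · exact xcomm_last.1 h1.symm
      · exact xcomm_last.1 h2.symm
  -- the elements `a` and `e`
  set aw : Fin 4 → ZMod 3 := ![1, 0, 0, 0]
  set ew : Fin 4 → ZMod 3 := ![0, 1, 0, 0]
  have hpow : ∀ w, xT w ^ 3 = 1 → el' w ^ 3 = 1 := fun w h => Subtype.ext (by
    show E.ι (xT w) ^ 3 = 1
    rw [← map_pow, h, map_one])
  have hca : ∀ c : K1, Commute c (el' aw) → c ∈ (P : Subgroup K1) := by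
    intro c hc
    have hconj : mk4 !![1, 0, 0, 0; 0, 2, 1, 0; 0, 2, 2, 1; 0, 0, 0, 2] * aS =
        rep 2 * xT aw * mk4 !![1, 0, 0, 0; 0, 2, 1, 0; 0, 2, 2, 1; 0, 0, 0, 2] := Stab_ext (by decide +kernel)
    set M0 := mk4 !![1, 0, 0, 0; 0, 2, 1, 0; 0, 2, 2, 1; 0, 0, 0, 2]
    have hcx : Commute (c : G) (E.ι (rep 2 * xT aw)) := by
      rw [map_mul]; exact (hK1c c c.2).mul_right (congrArg Subtype.val hc.eq)
    have hmem' : (E.ι M0)⁻¹ * c * E.ι M0 ∈ E.ι.range := E.cent_a (fun g _ h => hR h) (by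
      show _ = _
      have e : E.ι M0 * E.ι aS = E.ι (rep 2 * xT aw) * E.ι M0 := by rw [← map_mul, hconj, map_mul]
      calc (E.ι M0)⁻¹ * c * E.ι M0 * E.ι aS = (E.ι M0)⁻¹ * (c * E.ι (rep 2 * xT aw)) * E.ι M0 := by
            rw [mul_assoc ((E.ι M0)⁻¹ * (c : G)), e]; group
        _ = (E.ι M0)⁻¹ * E.ι (rep 2 * xT aw) * c * E.ι M0 := by rw [hcx.eq]; group
        _ = E.ι aS * ((E.ι M0)⁻¹ * c * E.ι M0) := by
            rw [show (E.ι M0)⁻¹ * E.ι (rep 2 * xT aw) = E.ι aS * (E.ι M0)⁻¹ by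
              rw [inv_mul_eq_iff_eq_mul, ← mul_assoc, e, mul_inv_cancel_right]]
            group)
    obtain ⟨M, hM⟩ := hmem'
    rcases hrange c ⟨M0 * M * M0⁻¹, by rw [map_mul, map_mul, map_inv, hM]; group⟩ with h | ⟨p, hp, h⟩
    · rw [hP]; exact h
    · obtain ⟨w, rfl⟩ := hel.1 hp
      refine absurd ?_ (x_not_comm w).1
      have h2 : E.ι (xT w * tS * xT aw) = E.ι (xT aw * (xT w * tS)) := by
        simp only [map_mul]
        have := congrArg Subtype.val (h ▸ hc).eq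
        exact this
      exact congrArg (fun N : Stab => N.1.1) (E.inj h2)
  haveI := Fintype.ofFinite K1
  obtain ⟨O, hOn, hO3, hdec⟩ := I.exists_core Inverted.good_two ⟨el' aw, hP' _⟩ ⟨el' ew, hP' _⟩
    (hpow _ (Stab_ext (by decide +kernel))) (hpow _ (Stab_ext (by decide +kernel)))
    (by rw [hIφ, hφ]; decide +kernel)
    (by
      refine isConj_iff.2 ⟨t, ?_⟩
      show t * (el' ew)⁻¹ * t⁻¹ = el' ew
      have h := congrArg (fun x : K1 => x⁻¹) (htw ew)
      simp only [_root_.mul_inv_rev, inv_inv] at h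
      rw [mul_assoc, h]
      refine inv_eq_of_mul_eq_one_right (Subtype.ext ?_)
      show E.ι (xT _) * E.ι (xT ew) = 1
      rw [← map_mul, show xT ![-ew 0, -ew 1, ew 2, -ew 3] * xT ew = 1 from Stab_ext (by decide +kernel), map_one])
    (by
      intro k
      show Multiplicative.toAdd (I.φ _) ≠ k • Multiplicative.toAdd (I.φ _)
      rw [hIφ, hφ, hφ]
      revert k
      decide)
    hca
    (by
      have hset : ∀ c : K1, Commute c (el' aw) ↔ ∃ a q, el' ![a, 0, 0, q] = c := by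
        have key : ∀ w : Fin 4 → ZMod 3, xcomm w ![1, 0, 0, 0] → w 1 = 0 ∧ w 2 = 0 := by
          unfold xcomm; decide +kernel
        intro c
        constructor
        · intro hc
          obtain ⟨w, rfl⟩ := hPm.1 (hca c hc)
          obtain ⟨k1, k2⟩ := key w ((hcomm _ _).1 hc)
          refine ⟨w 0, w 3, congrArg el' ?_⟩
          funext i; fin_cases i <;> simp [k1, k2]
        · rintro ⟨a, q, rfl⟩
          exact (hcomm _ _).2 (by simp [xcomm, xmul, aw]; exact add_comm a 1)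
      rw [← Nat.card_congr (Equiv.ofBijective (fun p : ZMod 3 × ZMod 3 =>
        (⟨el' ![p.1, 0, 0, p.2], mem_centralizer_singleton_iff.2 ((hset _).2 ⟨_, _, rfl⟩).eq⟩ :
          centralizer ({el' aw} : Set K1))) ⟨fun p q h => ?_, fun c => ?_⟩), Nat.card_prod, Nat.card_zmod]
      · norm_num
      · have := xT_inj (E.inj (congrArg (fun c : centralizer ({el' aw} : Set K1) => ((c : K1) : G)) h))
        exact Prod.ext (congrFun this 0) (congrFun this 3)
      · obtain ⟨a, q, hc⟩ := (hset c).1 (mem_centralizer_singleton_iff.1 c.2)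
        exact ⟨(a, q), Subtype.ext hc⟩)
    (by
      intro x hx1 hxφ hxa
      obtain ⟨w, hw⟩ := hPm.1 x.2
      have hx : x = ⟨el' w, hP' w⟩ := Subtype.ext hw.symm
      rw [hx, hIφ, hφ] at hxφ
      have h0 : w 1 = 0 ∧ w 0 = 0 := by
        have := congrArg Multiplicative.toAdd hxφ
        exact ⟨congrFun this 0, congrFun this 1⟩
      rw [← hw] at hxa
      have key : ∀ w : Fin 4 → ZMod 3, xcomm w ![1, 0, 0, 0] → w 1 = 0 ∧ w 2 = 0 := by
        unfold xcomm; decide +kernel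
      have h2 := (key w ((hcomm _ _).1 hxa)).2
      have hwz : w = ![0, 0, 0, w 3] := by funext i; fin_cases i <;> simp [h0.1, h0.2, h2]
      have hne : w 3 ≠ 0 := by
        intro e
        refine hx1 (Subtype.ext ?_)
        rw [← hw, hwz, e]
        exact Subtype.ext ((congrArg E.ι (show xT ![0, 0, 0, 0] = 1 from Stab_ext (by decide +kernel))).trans (map_one _))
      refine ⟨⊥, fun o ho => by rw [mem_bot.1 ho]; exact Commute.one_left _, fun c _ o ho => by
        rw [mem_bot.1 ho, mul_one, mul_inv_cancel]; exact one_mem _, by simp, fun c hc => ⟨1, one_mem _, c, ?_, hc, (one_mul c).symm⟩⟩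
      have hv : xT w = vS ![0, 0, w 3] := by
        rw [hwz]
        have : ∀ q, xM ![0, 0, 0, q] = aff ![0, 0, q] 1 := by decide +kernel
        exact Stab_ext (this _)
      rw [← hw] at hc
      have hcv : Commute (c : G) (E.ι (vS ![0, 0, w 3])) := by rw [← hv]; exact congrArg Subtype.val hc.eq
      rcases hrange c (E.cv (fun e => hne (congrFun e 2)) hcv) with h | ⟨p, hp, h⟩
      · rw [hP]; exact h
      · obtain ⟨u, rfl⟩ := hel.1 hp
        exfalso
        have h2 : E.ι (xT u * tS * vS ![0, 0, w 3]) = E.ι (vS ![0, 0, w 3] * (xT u * tS)) := by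
          simp only [map_mul]
          have := hcv.eq
          rw [h] at this
          exact this
        have key : ∀ (u : Fin 4 → ZMod 3) (q : ZMod 3), q ≠ 0 →
            xM u * tS.1.1 * aff ![0, 0, q] 1 ≠ aff ![0, 0, q] 1 * (xM u * tS.1.1) := by decide +kernel
        exact key u _ hne (congrArg (fun N : Stab => N.1.1) (E.inj h2)))
    (by
      rw [hIt]
      set S := closure {y | ∃ q ∈ (P : Subgroup K1), y = q⁻¹ * (t * q * t⁻¹)}
      have hg : ∀ w, xT ![-w 0, -w 1, w 2, -w 3] = xT w * xT w → el' w ∈ S := fun w h => by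
        refine subset_closure ⟨el' w, hP' w, ?_⟩
        rw [htw, eq_inv_mul_iff_mul_eq]
        refine Subtype.ext ?_
        show E.ι (xT w) * E.ι (xT w) = E.ι (xT _)
        rw [← map_mul, h]
      have hA := hg aw (Stab_ext (by decide +kernel))
      have hR' := hg ew (Stab_ext (by decide +kernel))
      have hZ := hg ![0, 0, 0, 1] (Stab_ext (by decide +kernel))
      intro k hk
      obtain ⟨w, rfl⟩ := hPm.1 hk
      obtain ⟨j, i, l, m, hw⟩ := x_gens w
      have : el' w = el' ![0, 0, 0, 1] ^ (i : ℕ) * ⁅el' aw, el' ew⁆ ^ (j : ℕ) * el' ew ^ (l : ℕ) * el' aw ^ (m : ℕ) :=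
        Subtype.ext (by
          show E.ι (xT w) = _
          rw [hw]
          simp [commutatorElement_def, map_mul, map_pow, map_inv, el', aw, ew])
      rw [this]
      exact mul_mem (mul_mem (mul_mem (pow_mem hZ _) (pow_mem (by
        rw [commutatorElement_def]
        exact mul_mem (mul_mem (mul_mem hA hR') (inv_mem hA)) (inv_mem hR')) _)) (pow_mem hR' _)) (pow_mem hA _))
    (by
      rw [hIt]
      exact fun g hg => hisoP g (Inverted.mem_normalizer_conj hg (hP' _)))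
    (Or.inr ⟨zK, hzP, by
      have h : zK = ⁅el' aw, el' ![0, 0, 1, 0]⁆ ∨ zK = ⁅el' ![0, 0, 1, 0], el' aw⁆ := by
        have key : zS = ⁅xT aw, xT ![0, 0, 1, 0]⁆ ∨ zS = ⁅xT ![0, 0, 1, 0], xT aw⁆ := by decide +kernel
        rcases key with k | k
        · left; refine Subtype.ext ?_
          show E.ι (xT _) = _
          rw [hzS, k]; simp [commutatorElement_def, map_mul, map_inv, el']
        · right; refine Subtype.ext ?_
          show E.ι (xT _) = _
          rw [hzS, k]; simp [commutatorElement_def, map_mul, map_inv, el']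
      rcases h with h | h <;> rw [h]
      exacts [commutator_mem_commutator (hP' _) (hP' _), commutator_mem_commutator (hP' _) (hP' _)],
      by rw [hIt]; exact hisoP, by
      have hle : ∀ a ∈ ⁅(P : Subgroup K1), (P : Subgroup K1)⁆, ∃ w, w 0 = 0 ∧ w 1 = 0 ∧ el' w = a := by
        intro a ha
        have h2 : ⁅(P : Subgroup K1), (P : Subgroup K1)⁆ ≤ φ.ker.map (P : Subgroup K1).subtype :=
          commutator_le.2 fun x hx y hy => ⟨⁅(⟨x, hx⟩ : (P : Subgroup K1)), ⟨y, hy⟩⁆, by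
            rw [SetLike.mem_coe, MonoidHom.mem_ker, map_commutatorElement]
            exact commutatorElement_eq_one_iff_commute.2 (Commute.all _ _), rfl⟩
        obtain ⟨p, hp, rfl⟩ := h2 ha
        obtain ⟨w, hw⟩ := hPm.1 p.2
        have e : p = ⟨el' w, hP' w⟩ := Subtype.ext hw.symm
        rw [e, SetLike.mem_coe, MonoidHom.mem_ker, hφ] at hp
        have hp' := congrArg Multiplicative.toAdd hp
        exact ⟨w, congrFun hp' 1, congrFun hp' 0, hw⟩
      intro a ha b hb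
      obtain ⟨u, u0, u1, rfl⟩ := hle a ha
      obtain ⟨w, w0, w1, rfl⟩ := hle b hb
      exact (hcomm _ _).2 (by simp [xcomm, xmul, u0, u1, w0, w1, add_comm])⟩)
  have hO : O = ⊥ := E.core_trivial K1 (hK1n _ (E.ι_commute.2 (Stab_ext (by decide +kernel))))
    (hK1n _ (E.ι_commute.2 (Stab_ext (by decide +kernel)))) hOn hO3
  obtain ⟨k, hk, M, -, rfl⟩ := hK1s g hg
  obtain ⟨o, ho, p, hp, he⟩ := hdec ⟨k, hk⟩
  rw [hO, mem_bot] at ho
  subst ho
  obtain ⟨w, rfl⟩ := hPm.1 hp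
  refine mul_mem ?_ ⟨M, rfl⟩
  rcases he with he | he <;> rw [show k = _ from congrArg Subtype.val he]
  · exact ⟨xT w, by simp [el']⟩
  · exact ⟨xT w * tS, by rw [hIt]; simp [el', t]⟩

end Emb

end Cfsg.Agent.Spor.L43Three
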