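import Cfsg.Agent.Lib.Spor.L43Three.One.Kernel

/-!
Normal subgroups of order prime to three of a kernel give signalizers.
-/

set_option autoImplicit false
set_option linter.unusedSectionVars false

namespace Cfsg.Agent.Spor.L43Three

open Subgroup Matrix

universe u

variable {G : Type u} [Group G] [Finite G] (E : Emb G)

/-- A normal subgroup of order prime to three of a subgroup normalised by `y` and `z` is trivial. -/
theorem Emb.core_trivial (K1 : Subgroup G) (hy : ∀ g ∈ K1, E.ι yS * g * (E.ι yS)⁻¹ ∈ K1)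
    (hz : ∀ g ∈ K1, E.ι zS * g * (E.ι zS)⁻¹ ∈ K1) {O : Subgroup K1} (hO : O.Normal) (h3 : (Nat.card O).Coprime 3) :
    O = ⊥ := by
  set W := Cfsg.pPrimeCore 3 K1
  have hWn : W.Normal := Grp.pPrimeCore_isNormal
  have hconj : ∀ c : G, (∀ g ∈ K1, c * g * c⁻¹ ∈ K1) → ∀ w ∈ W.map K1.subtype, c * w * c⁻¹ ∈ W.map K1.subtype := by
    intro c hc
    let φ : K1 →* K1 := MonoidHom.mk' (fun g => ⟨c * g * c⁻¹, hc g g.2⟩) fun a b => Subtype.ext (by
      show c * ((a : G) * b) * c⁻¹ = c * a * c⁻¹ * (c * b * c⁻¹)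
      group)
    have hinj : Function.Injective φ := fun a b h =>
      Subtype.ext (mul_left_cancel (mul_right_cancel (congrArg Subtype.val h)))
    have hbij := Finite.injective_iff_bijective.1 hinj
    have hle : W.map φ ≤ W := Grp.le_pPrimeCore (hWn.map φ hbij.2)
      (by rw [card_map_of_injective hinj]; exact Grp.pPrimeCore_coprime)
    rintro _ ⟨w, hw, rfl⟩
    exact ⟨φ w, hle ⟨w, hw, rfl⟩, rfl⟩
  have hW : W.map K1.subtype = ⊥ := E.signalizer
    (by rw [card_map_of_injective K1.subtype_injective]; exact Grp.pPrimeCore_coprime)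
    (hconj _ hy) (hconj _ hz)
  rw [map_eq_bot_iff_of_injective _ K1.subtype_injective] at hW
  exact le_bot_iff.1 (hW ▸ Grp.le_pPrimeCore hO h3)

end Cfsg.Agent.Spor.L43Three
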