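import Cfsg.Agent.Lib.Spor.L43Three.One.CentT
import Cfsg.Agent.Lib.Spor.L43Three.Count

/-!
When `z` is isolated the embedded stabiliser is the whole group.
-/

set_option autoImplicit false
set_option linter.unusedSectionVars false
set_option maxRecDepth 10000

namespace Cfsg.Agent.Spor.L43Three

open Subgroup Matrix

universe u

theorem card_ct : (Finset.univ.filter fun p : Fin 6 → ZMod 3 => det3 (ctM p) = 1).card = 144 := by decide +kernel

theorem card_cent_tI' : Nat.card (centralizer ({tI} : Set Stab)) ≤ 144 := by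
  have hsh := fun M : centralizer ({tI} : Set Stab) => ct_shape (M := M.1) (mem_centralizer_singleton_iff.1 M.2)
  choose p hp hd using hsh
  rw [← card_ct, ← Nat.card_eq_finsetCard]
  refine Nat.card_le_card_of_injective (fun M => (⟨p M, Finset.mem_filter.2 ⟨Finset.mem_univ _, hd M⟩⟩ :
    {q // q ∈ Finset.univ.filter fun q : Fin 6 → ZMod 3 => det3 (ctM q) = 1})) fun M N h => Subtype.ext (Stab_ext ?_)
  rw [← hp M, ← hp N, show p M = p N from congrArg Subtype.val h]

namespace Emb

variable {G : Type u} [Group G] [Finite G] (E : Emb G)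

/-- The isolated case. -/
theorem range_eq_top (hR : E.R ≤ E.ι.range) : E.ι.range = ⊤ := by
  set N := E.ι.range
  have hfus : ∀ g : G, g * E.ι tI * g⁻¹ ∈ N → g ∈ N := by
    rintro g ⟨M, hM⟩
    have hM2 : M * M = 1 := E.inj (by
      rw [map_mul, hM, map_one]
      calc g * E.ι tI * g⁻¹ * (g * E.ι tI * g⁻¹) = g * (E.ι tI * E.ι tI) * g⁻¹ := by group
        _ = 1 := by rw [← map_mul, tI_sq, map_one]; group)
    have hM1 : M ≠ 1 := fun e => tI_ne (E.inj (by
      rw [e, map_one] at hM
      rw [map_one]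
      exact conj_eq_one_iff.1 hM.symm))
    obtain ⟨c, hc⟩ := isConj_iff.1 (conj_tI hM2 hM1)
    have h : (E.ι c)⁻¹ * g ∈ N := E.cent_tI hR (by
      show _ = _
      calc (E.ι c)⁻¹ * g * E.ι tI = (E.ι c)⁻¹ * (g * E.ι tI * g⁻¹) * g := by group
        _ = (E.ι c)⁻¹ * (E.ι c * E.ι tI * (E.ι c)⁻¹) * g := by rw [← hM, ← hc, map_mul, map_mul, map_inv]
        _ = E.ι tI * ((E.ι c)⁻¹ * g) := by group)
    have h2 := mul_mem (⟨c, rfl⟩ : E.ι c ∈ N) h
    rwa [mul_inv_cancel_left] at h2
  refine eq_top_of_count N (E.ι tI) ⟨tI, rfl⟩ (by rw [← map_mul, tI_sq, map_one]) hfus 351 ?_ ?_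
  · have hN : Nat.card N = 151632 := by
      rw [← card_Stab]
      exact (Nat.card_congr (MonoidHom.ofInjective E.inj).toEquiv).symm
    have hC : Nat.card (centralizer ({E.ι tI} : Set G)) ≤ 144 := by
      refine le_trans ?_ card_cent_tI'
      have hpre : ∀ g : centralizer ({E.ι tI} : Set G), ∃ M, E.ι M = g :=
        fun g => E.cent_tI hR (mem_centralizer_singleton_iff.1 g.2)
      choose M hM using hpre
      refine Nat.card_le_card_of_injective (fun g => (⟨M g, mem_centralizer_singleton_iff.2 (E.ι_commute.1 (by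
        rw [hM]; exact mem_centralizer_singleton_iff.1 g.2)).eq⟩ : centralizer ({tI} : Set Stab)))
        fun a b h => Subtype.ext ?_
      rw [← hM a, ← hM b, show M a = M b from congrArg Subtype.val h]
    rw [hN]
    omega
  · rintro j hj hjN
    obtain ⟨g, rfl⟩ := isConj_iff.1 hj
    set j := g * E.ι tI * g⁻¹
    set D := (N ⊓ N.map (MulAut.conj j).toMonoidHom : Subgroup G)
    have hback : ∀ d ∈ D, j⁻¹ * d * j ∈ N := by
      rintro d ⟨-, n, hn, rfl⟩
      show j⁻¹ * (j * n * j⁻¹) * j ∈ N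
      rwa [show j⁻¹ * (j * n * j⁻¹) * j = n by group]
    -- `D` meets `V` trivially
    have hV : ∀ v, E.ι (vS v) ∈ D → v = 0 := fun v hv => by
      by_contra hne
      have := E.iso_v hne (g := j⁻¹) (E.le (by rw [inv_inv]; exact hback _ hv))
      exact hjN (by simpa using inv_mem (hR this))
    let f : D →* SL33 := MonoidHom.mk' (fun d => low (MonoidHom.ofInjective E.inj |>.symm ⟨d, d.2.1⟩)) fun a b => by
      rw [← low_mul, ← map_mul]; rfl
    have hf : Function.Injective f := by
      refine (injective_iff_map_eq_one f).2 fun d hd => Subtype.ext ?_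
      obtain ⟨M, hM⟩ := d.2.1
      have hsym : (MonoidHom.ofInjective E.inj).symm ⟨d, d.2.1⟩ = M := by
        rw [MulEquiv.symm_apply_eq]; exact Subtype.ext hM.symm
      have hlow : low M = 1 := by rw [← hsym]; exact hd
      have hMv : M = vS (topRow M.1.1) := by rw [vS, ← hlow, el_parts]
      have h0 := hV (topRow M.1.1) (by rw [← hMv, hM]; exact d.2)
      rw [← hM, hMv, h0, vS_zero, map_one]
      rfl
    have hdvd : Nat.card D ∣ 5616 := card_SL33 ▸ Subgroup.card_dvd_of_injective f hf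
    have hodd : ¬ 2 ∣ Nat.card D := by
      intro h2
      haveI : Fact (Nat.Prime 2) := ⟨Nat.prime_two⟩
      obtain ⟨d, hd⟩ := exists_prime_orderOf_dvd_card' 2 h2
      obtain ⟨M, hM⟩ := d.2.1
      have hd2 : (d : G) ^ 2 = 1 := by rw [← hd, ← Subgroup.orderOf_coe, pow_orderOf_eq_one]
      have hM2 : M * M = 1 := E.inj (by rw [map_mul, hM, map_one, ← pow_two, hd2])
      have hM1 : M ≠ 1 := fun e => by
        rw [e, map_one] at hM
        rw [← Subgroup.orderOf_coe, ← hM, orderOf_one] at hd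
        norm_num at hd
      obtain ⟨c, hc⟩ := isConj_iff.1 (conj_tI hM2 hM1)
      have hm := hfus (j⁻¹ * E.ι c) (by
        rw [show j⁻¹ * E.ι c * E.ι tI * (j⁻¹ * E.ι c)⁻¹ = j⁻¹ * (E.ι c * E.ι tI * (E.ι c)⁻¹) * j by group,
          ← map_inv, ← map_mul, ← map_mul, hc, hM]
        exact hback _ d.2)
      have h2' := mul_mem hm (inv_mem (⟨c, rfl⟩ : E.ι c ∈ N))
      rw [mul_inv_cancel_right] at h2'
      exact hjN (by simpa using inv_mem h2')
    have hc : (Nat.card D).Coprime 16 := by
      rw [show (16 : ℕ) = 2 ^ 4 by norm_num]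
      exact ((Nat.prime_two.coprime_iff_not_dvd.2 hodd).symm).pow_right 4
    exact Nat.le_of_dvd (by norm_num) (hc.dvd_of_dvd_mul_left (show Nat.card D ∣ 16 * 351 by norm_num; exact hdvd))

end Emb

end Cfsg.Agent.Spor.L43Three
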