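import Cfsg.Agent.Lib.Spor.L43Three.Isolation
import Cfsg.Agent.Lib.Grp.Cores

/-!
A centraliser of an element of order three when `z` is isolated in the normaliser of `V`: a kernel of index three.
-/

set_option autoImplicit false
set_option linter.unusedSectionVars false
set_option maxHeartbeats 1000000

namespace Cfsg.Agent.Spor.L43Three

open Subgroup Matrix
open scoped commutatorElement

universe u

/-- A three-group containing an isolated element, with supplement of order two, is a Sylow subgroup. -/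
theorem exists_sylow_iso {K : Type u} [Group K] [Finite K] (D : Subgroup K) (hD : IsPGroup 3 D) (z t : K)
    (hz : z ∈ D) (ht2 : t * t = 1) (ht1 : t ≠ 1)
    (hiso : ∀ g : K, g * z * g⁻¹ ∈ D → g ∈ D ∨ ∃ p ∈ D, g = p * t) : ∃ P : Sylow 3 K, (P : Subgroup K) = D := by
  haveI : Fact (Nat.Prime 3) := ⟨Nat.prime_three⟩
  obtain ⟨P, hP⟩ := hD.exists_le_sylow
  refine ⟨P, le_antisymm ?_ hP⟩
  by_contra hne
  have hlt : D.subgroupOf (P : Subgroup K) < ⊤ := lt_top_iff_ne_top.2 fun h => hne (subgroupOf_eq_top.1 h)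
  haveI : Group.IsNilpotent (P : Subgroup K) := P.isPGroup'.isNilpotent
  obtain ⟨m, hm, hmD⟩ := SetLike.exists_of_lt (normalizerCondition_of_isNilpotent _ hlt)
  rcases hiso m (Inverted.mem_normalizer_conj (a := ⟨z, hP hz⟩) hm hz) with h | ⟨p, hp, h⟩
  · exact hmD h
  · have htP : t ∈ (P : Subgroup K) := by
      have := mul_mem (inv_mem (hP hp)) m.2
      rwa [h, inv_mul_cancel_left] at this
    obtain ⟨k, hk⟩ := IsPGroup.iff_orderOf.1 P.isPGroup' ⟨t, htP⟩
    rw [Subgroup.orderOf_mk] at hk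
    have h2 : orderOf t ∣ 2 := orderOf_dvd_of_pow_eq_one (by rw [pow_two, ht2])
    exact ht1 (orderOf_eq_one_iff.1 (Nat.eq_one_of_dvd_coprimes
      ((show Nat.Coprime 2 3 by norm_num).pow_right k) h2 (hk ▸ dvd_rfl)))

/-- The involution inverting the kernels. -/
def tS : Stab := mk4 !![1, 0, 0, 0; 0, 2, 0, 0; 0, 0, 1, 0; 0, 0, 0, 2]

theorem tS_sq : tS * tS = 1 := Stab_ext (by decide +kernel)

theorem tS_ne : tS ≠ 1 := fun h => absurd (congrArg (fun M : Stab => M.1.1) h) (by decide +kernel)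

theorem tS_z : tS * zS * tS = zS * zS := Stab_ext (by decide +kernel)

theorem U4_comm_z {M : Stab} (h : M ∈ U4) : Commute M zS := by
  obtain ⟨p, hp⟩ := uMat_surj h
  have key : ∀ p : Fin 729, uMat p * zS.1.1 = zS.1.1 * uMat p := by decide +kernel
  exact Stab_ext (by rw [Stab_mul_val, Stab_mul_val, ← hp]; exact key p)

theorem U4_conj_tS {M : Stab} (h : M ∈ U4) : tS * M * tS ∈ U4 := by
  intro i j hij
  have := h i j hij
  rw [Stab_mul_val, Stab_mul_val]
  have e : tS.1.1 = Matrix.diagonal ![1, 2, 1, 2] := by decide +kernel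
  rw [e, Matrix.mul_diagonal, Matrix.diagonal_mul, this]
  fin_cases i <;> fin_cases j <;> first | decide | exact absurd hij (by decide)

theorem eq_one_of_sq_three : ∀ x : Multiplicative (ZMod 3), 1 = x * x → x = 1 := by decide

theorem U4_isPGroup : IsPGroup 3 U4 := IsPGroup.of_card (n := 6) (by rw [card_U4]; norm_num)

theorem tS_notMem : tS ∉ U4 := fun h => by
  have := h 1 1 le_rfl
  exact absurd this (by decide)

/-- A triangular matrix with alternating diagonal lies in `U4` or its translate. -/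
theorem cover_of_tri {M : Stab} (h21 : M.1.1 2 1 = 0) (h31 : M.1.1 3 1 = 0) (h32 : M.1.1 3 2 = 0)
    (h22 : M.1.1 1 1 ≠ 0 → M.1.1 2 2 = 1) (h33 : M.1.1 3 3 = M.1.1 1 1) : M ∈ U4 ∨ M * tS ∈ U4 := by
  have h0 := M.2
  have hd := M.1.2
  have hT : M.1.1.BlockTriangular id := by
    intro i j hij
    fin_cases i <;> fin_cases j <;>
      first
      | exact absurd hij (by decide)
      | (simpa using h0 1)
      | (simpa using h0 2)
      | (simpa using h0 3)
      | exact h21
      | exact h31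
      | exact h32
  have hd1 : M.1.1 1 1 ≠ 0 := by
    intro h
    rw [Matrix.det_of_upperTriangular hT, Fin.prod_univ_four, h] at hd
    simp at hd
  have h22' := h22 hd1
  have hcases : M.1.1 1 1 = 1 ∨ M.1.1 1 1 = 2 := by
    have : ∀ x : ZMod 3, x ≠ 0 → x = 1 ∨ x = 2 := by decide
    exact this _ hd1
  rcases hcases with e | e
  · left
    intro i j hij
    fin_cases i <;> fin_cases j <;>
      first
      | exact absurd hij (by decide)
      | (simpa using h0 0)
      | (simpa using h0 1)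
      | (simpa using h0 2)
      | (simpa using h0 3)
      | (simp [h21, h31, h32, h22', h33, e])
  · right
    intro i j hij
    rw [Stab_mul_val, show tS.1.1 = Matrix.diagonal ![1, 2, 1, 2] by decide +kernel, Matrix.mul_diagonal]
    fin_cases i <;> fin_cases j <;>
      first
      | exact absurd hij (by decide)
      | (simpa using h0 0)
      | (simpa using h0 1)
      | (simpa using h0 2)
      | (simpa using h0 3)
      | (simp [h21, h31, h32, h22', h33, e] <;> decide)

namespace Emb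

variable {G : Type u} [Group G] [Finite G] (E : Emb G)

/-- The kernel data in the centraliser of `q`. -/
theorem exists_kernel (hR : E.R ≤ E.ι.range) {q : Stab} (hzq : Commute zS q) (htq : Commute tS q)
    (χ : Stab → ZMod 3) (hχ : ∀ M N, Commute M q → Commute N q → χ (M * N) = χ M + χ N) (hχz : χ zS = 0)
    (hcover : ∀ M, Commute M q → M ∈ U4 ∨ M * tS ∈ U4) :
    ∃ K1 : Subgroup G, (∀ g ∈ K1, Commute g (E.ι q)) ∧
      (∀ c, Commute c (E.ι q) → ∀ g ∈ K1, c * g * c⁻¹ ∈ K1) ∧
      (∀ M, E.ι M ∈ K1 ↔ Commute M q ∧ χ M = 0) ∧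
      ∀ c, Commute c (E.ι q) → ∃ k ∈ K1, ∃ M, Commute M q ∧ c = k * E.ι M := by
  haveI : Fact (Nat.Prime 3) := ⟨Nat.prime_three⟩
  set K := centralizer ({E.ι q} : Set G)
  have hK : ∀ {x : G}, x ∈ K ↔ Commute x (E.ι q) := Subgroup.mem_centralizer_singleton_iff
  let f : (centralizer ({q} : Set Stab)) →* K :=
    { toFun := fun M => ⟨E.ι M, hK.2 (E.ι_commute.2 (Subgroup.mem_centralizer_singleton_iff.1 M.2))⟩
      map_one' := Subtype.ext (map_one E.ι)
      map_mul' := fun M N => Subtype.ext (map_mul E.ι _ _) }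
  have hf : Function.Injective f := fun M N h => Subtype.ext (E.inj (congrArg Subtype.val h))
  have hfr : ∀ x : K, (x : G) ∈ E.R → ∃ M, f M = x := fun x hx => by
    obtain ⟨M, hM⟩ := hR hx
    exact ⟨⟨M, Subgroup.mem_centralizer_singleton_iff.2 (E.ι_commute.1 (by rw [hM]; exact hK.1 x.2)).eq⟩, Subtype.ext hM⟩
  set D := (U4.comap (centralizer ({q} : Set Stab)).subtype).map f with hDdef
  have hD3 : IsPGroup 3 D := (U4_isPGroup.comap_subtype (K := centralizer ({q} : Set Stab))).map f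
  let z' : centralizer ({q} : Set Stab) := ⟨zS, Subgroup.mem_centralizer_singleton_iff.2 hzq.eq⟩
  let t' : centralizer ({q} : Set Stab) := ⟨tS, Subgroup.mem_centralizer_singleton_iff.2 htq.eq⟩
  have hzU : zS ∈ U4 := fun i j hij => by
    fin_cases i <;> fin_cases j <;> first | decide | exact absurd hij (by decide)
  have hzD : f z' ∈ D := ⟨z', hzU, rfl⟩
  have hiso : ∀ g : K, g * f z' * g⁻¹ ∈ D → g ∈ D ∨ ∃ p ∈ D, g = p * f t' := by
    intro g hg
    obtain ⟨N, -, hN⟩ := hg
    obtain ⟨M, rfl⟩ := hfr g (E.iso _ (E.le ⟨N, congrArg Subtype.val hN⟩))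
    rcases hcover M (Subgroup.mem_centralizer_singleton_iff.1 M.2) with h | h
    · exact Or.inl ⟨M, h, rfl⟩
    · refine Or.inr ⟨f (M * t'), ⟨M * t', h, rfl⟩, ?_⟩
      rw [← map_mul, mul_assoc, show t' * t' = 1 from Subtype.ext tS_sq, mul_one]
  obtain ⟨P, hP⟩ := exists_sylow_iso D hD3 (f z') (f t') hzD
    (by rw [← map_mul, show t' * t' = 1 from Subtype.ext tS_sq, map_one])
    (fun h => tS_ne (congrArg Subtype.val (hf (h.trans (map_one f).symm)))) hiso
  have hz : f z' ∈ centralizer ((P : Subgroup K) : Set K) := by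
    refine mem_centralizer_iff.2 fun x hx => ?_
    rw [SetLike.mem_coe, hP] at hx
    obtain ⟨M, hM, rfl⟩ := hx
    rw [← map_mul, ← map_mul]
    exact congrArg f (Subtype.ext (U4_comm_z hM).eq)
  have hW : Cfsg.IsWeaklyClosed (zpowers (f z')) (P : Subgroup K) := by
    refine ⟨zpowers_le.2 (hP ▸ hzD), fun g hg => ?_⟩
    rw [MonoidHom.map_zpowers] at hg ⊢
    have hgz : g * f z' * g⁻¹ ∈ (P : Subgroup K) := hg (mem_zpowers _)
    show zpowers (g * f z' * g⁻¹) = zpowers (f z')
    rcases hiso g (hP ▸ hgz) with h | ⟨p, hp, rfl⟩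
    · rw [mem_centralizer_iff.1 hz g (hP.symm ▸ h), mul_inv_cancel_right]
    · have ht : f t' * f z' * (f t')⁻¹ = (f z')⁻¹ := by
        rw [← map_inv, ← map_inv, ← map_mul, ← map_mul]
        refine congrArg f (Subtype.ext ?_)
        show tS * zS * tS⁻¹ = zS⁻¹
        rw [inv_eq_of_mul_eq_one_right tS_sq, tS_z]
        exact Stab_ext (by decide +kernel) |>.trans (inv_eq_of_mul_eq_one_right (a := zS) (b := zS * zS)
          (Stab_ext (by decide +kernel))).symm
      rw [show p * f t' * f z' * (p * f t')⁻¹ = p * (f t' * f z' * (f t')⁻¹) * p⁻¹ by group, ht,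
        ← (show Commute (f z') p from (mem_centralizer_iff.1 hz p (hP.symm ▸ hp)).symm).inv_left.eq,
        mul_inv_cancel_right, zpowers_inv]
  have hG := Cfsg.Agent.S0077.result P (zpowers (f z')) (zpowers_le.2 hz) hW
  obtain ⟨-, N, hNn, hNP, hNtop⟩ := Cfsg.Agent.S0080.result (P : Subgroup K) (by
    obtain ⟨k, hk⟩ := IsPGroup.iff_card.1 P.isPGroup'
    exact ((Nat.prime_three.coprime_iff_not_dvd.2 P.not_dvd_index).symm.pow_right k).coprime_dvd_right
      (hk ▸ index_dvd_card _))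
  rw [hG] at hNP
  haveI := hNn
  let χ' : (centralizer ({q} : Set Stab)) →* Multiplicative (ZMod 3) := MonoidHom.mk'
    (fun M => Multiplicative.ofAdd (χ M)) fun M N => by
      rw [← ofAdd_add]
      exact congrArg _ (hχ _ _ (Subgroup.mem_centralizer_singleton_iff.1 M.2) (Subgroup.mem_centralizer_singleton_iff.1 N.2))
  have hsep : ∀ M, f M ∈ N → f M ∈ (P : Subgroup K) → χ' M = 1 := by
    intro M h1 h2
    have h3 : f M ∈ ⁅normalizer ((zpowers (f z') : Subgroup K) : Set K), normalizer ((zpowers (f z') : Subgroup K) : Set K)⁆ :=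
      (hNP ▸ (show f M ∈ N ⊓ (P : Subgroup K) from ⟨h1, h2⟩)).1
    have hle : normalizer ((zpowers (f z') : Subgroup K) : Set K) ≤ f.range := fun g hg => by
      rcases hiso g (hP ▸ (zpowers_le.2 (hP.symm ▸ hzD) (Inverted.mem_normalizer_conj hg (mem_zpowers _)))) with
        h | ⟨p, hp, rfl⟩
      · obtain ⟨M, -, rfl⟩ := h; exact ⟨M, rfl⟩
      · obtain ⟨M, -, rfl⟩ := hp; exact ⟨M * t', map_mul f _ _⟩
    have h4 : f M ∈ (⁅(⊤ : Subgroup (centralizer ({q} : Set Stab))), (⊤ : Subgroup (centralizer ({q} : Set Stab)))⁆ :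
        Subgroup (centralizer ({q} : Set Stab))).map f := by
      rw [map_commutator, ← MonoidHom.range_eq_map]
      exact commutator_mono hle hle h3
    obtain ⟨M', hM', e⟩ := h4
    rw [← hf e]
    have : ⁅(⊤ : Subgroup (centralizer ({q} : Set Stab))), ⊤⁆ ≤ χ'.ker := commutator_le.2 fun a _ b _ => by
      rw [MonoidHom.mem_ker, map_commutatorElement]
      exact commutatorElement_eq_one_iff_commute.2 (Commute.all _ _)
    exact this hM'
  set T1 := (((U4.comap (centralizer ({q} : Set Stab)).subtype) ⊓ χ'.ker).map f)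
  have hdecP : ∀ p ∈ (P : Subgroup K), ∃ M : centralizer ({q} : Set Stab), (M : Stab) ∈ U4 ∧ f M = p :=
    fun p hp => by
      rw [hP] at hp
      obtain ⟨M, hM, rfl⟩ := hp
      exact ⟨M, hM, rfl⟩
  have hsupp : ∀ k : K, ∃ n ∈ N, ∃ M : centralizer ({q} : Set Stab), (M : Stab) ∈ U4 ∧ k = n * f M := by
    intro k
    obtain ⟨n, hn, p, hp, rfl⟩ := mem_sup_of_normal_left.1 (show k ∈ N ⊔ (P : Subgroup K) from hNtop.ge (mem_top k))
    obtain ⟨M, hM, rfl⟩ := hdecP p hp
    exact ⟨n, hn, M, hM, rfl⟩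
  choose n hn Mf hMU hdec using hsupp
  have hwell : ∀ k : K, ∀ n' ∈ N, ∀ M : centralizer ({q} : Set Stab), (M : Stab) ∈ U4 → k = n' * f M →
      χ' (Mf k) = χ' M := by
    intro k n' hn' M hM e
    have e2 : f (Mf k * M⁻¹) = (n k)⁻¹ * n' := by
      rw [map_mul, map_inv]
      have := (hdec k).symm.trans e
      calc f (Mf k) * (f M)⁻¹ = (n k)⁻¹ * (n k * f (Mf k)) * (f M)⁻¹ := by group
        _ = _ := by rw [this]; group
    have := hsep (Mf k * M⁻¹) (e2 ▸ mul_mem (inv_mem (hn k)) hn') (hP ▸ ⟨_, mul_mem (hMU k) (inv_mem hM), rfl⟩)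
    rwa [map_mul, map_inv, mul_inv_eq_one] at this
  let Ψ : K →* Multiplicative (ZMod 3) := MonoidHom.mk' (fun k => χ' (Mf k)) fun a b => by
    rw [← map_mul]
    refine hwell (a * b) (n a * (f (Mf a) * n b * (f (Mf a))⁻¹)) (mul_mem (hn a) (hNn.conj_mem _ (hn b) _))
      (Mf a * Mf b) (mul_mem (hMU a) (hMU b)) ?_
    conv_lhs => rw [hdec a, hdec b]
    rw [map_mul]; group
  have hΨ : ∀ M, Ψ (f M) = χ' M := by
    have hU : ∀ M : centralizer ({q} : Set Stab), (M : Stab) ∈ U4 → Ψ (f M) = χ' M :=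
      fun M hM => hwell (f M) 1 N.one_mem M hM (one_mul _).symm
    have h2 : ∀ (A : centralizer ({q} : Set Stab) →* Multiplicative (ZMod 3)), A t' = 1 := fun A => by
      have h := map_mul A t' t'
      rw [show t' * t' = 1 from Subtype.ext tS_sq, map_one] at h
      exact eq_one_of_sq_three _ h
    intro M
    rcases hcover M (Subgroup.mem_centralizer_singleton_iff.1 M.2) with h | h
    · exact hU M h
    · have := hU (M * t') h
      rw [map_mul, map_mul, map_mul, h2 χ', show Ψ (f t') = 1 from h2 (Ψ.comp f)] at this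
      simpa using this
  refine ⟨Ψ.ker.map K.subtype, ?_, ?_, ?_, ?_⟩
  · rintro _ ⟨k, -, rfl⟩; exact hK.1 k.2
  · rintro c hc _ ⟨k, hk, rfl⟩
    exact ⟨⟨c, hK.2 hc⟩ * k * ⟨c, hK.2 hc⟩⁻¹, (MonoidHom.normal_ker Ψ).conj_mem k hk _, rfl⟩
  · intro M
    constructor
    · rintro ⟨k, hk, he⟩
      have hM : Commute M q := E.ι_commute.1 (by rw [← he]; exact hK.1 k.2)
      refine ⟨hM, Multiplicative.ofAdd.injective ?_⟩
      have := (hΨ ⟨M, Subgroup.mem_centralizer_singleton_iff.2 hM.eq⟩).symm.trans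
        ((congrArg Ψ (Subtype.ext he.symm : f ⟨M, _⟩ = k)).trans hk)
      exact this
    · rintro ⟨hM, h⟩
      exact ⟨f ⟨M, Subgroup.mem_centralizer_singleton_iff.2 hM.eq⟩, (hΨ _).trans (congrArg Multiplicative.ofAdd h), rfl⟩
  · intro c hc
    set k : K := ⟨c, hK.2 hc⟩
    refine ⟨c * (E.ι (Mf k))⁻¹, ⟨k * (f (Mf k))⁻¹, ?_, rfl⟩, Mf k, Subgroup.mem_centralizer_singleton_iff.1 (Mf k).2, ?_⟩
    · show Ψ (k * (f (Mf k))⁻¹) = 1
      rw [map_mul, map_inv, hΨ]
      exact mul_inv_cancel (χ' (Mf k))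
    · show c = c * (E.ι (Mf k))⁻¹ * E.ι (Mf k)
      rw [inv_mul_cancel_right]

end Emb

end Cfsg.Agent.Spor.L43Three
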